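import Mathlib
import Cfsg.Prelude.Def_FusionComponents
import Cfsg.Agent.Lead.FusionExt
import Cfsg.Agent.CSE.LocalA

/-!
S5150 (COP), piece P0: small general lemmas (coprime action, the power trick, automorphisms from maps).
-/

set_option autoImplicit false

namespace Cfsg.Agent.COP

open Cfsg Cfsg.FusionSystem Cfsg.Agent.Lead

variable {Ω : Type*} [Group Ω] {S : Subgroup Ω}

/-- A `p'`-automorphism trivial on `D` modulo `Z` and trivial on `Z` (`Z` of `p`-power-order elements) is trivial on `D`. -/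
theorem cop_coprime_trivial {Y : Type*} [Group Y] (p : ℕ) [Fact p.Prime] (σ : MulAut Y)
    (hσ : (orderOf σ).Coprime p) (D Z : Subgroup Y)
    (hZp : ∀ z ∈ Z, ∃ k : ℕ, orderOf z = p ^ k)
    (h1 : ∀ d ∈ D, d⁻¹ * σ d ∈ Z) (h2 : ∀ z ∈ Z, σ z = z)
    (d : Y) (hd : d ∈ D) : σ d = d := by
  set z := d⁻¹ * σ d with hz
  have hzZ : z ∈ Z := h1 d hd
  have hσd : σ d = d * z := by rw [hz]; group
  have key : ∀ k : ℕ, (σ ^ k) d = d * z ^ k := by
    intro k
    induction k with
    | zero => simp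
    | succ k ih =>
      rw [pow_succ', MulAut.mul_apply, ih, map_mul, map_pow, h2 z hzZ, hσd, pow_succ', mul_assoc]
  have h3 := key (orderOf σ)
  rw [pow_orderOf_eq_one, MulAut.one_apply] at h3
  have h4 : z ^ orderOf σ = 1 := by
    have : d * z ^ orderOf σ = d * 1 := by rw [← h3, mul_one]
    exact mul_left_cancel this
  obtain ⟨k, hk⟩ := hZp z hzZ
  have h5 : orderOf z ∣ orderOf σ := orderOf_dvd_of_pow_eq_one h4
  have hp : p.Prime := Fact.out
  have h6 : orderOf z = 1 := by
    have hc : (orderOf z).Coprime p := Nat.Coprime.coprime_dvd_left h5 hσ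
    rw [hk] at hc ⊢
    rcases Nat.eq_zero_or_pos k with rfl | hkpos
    · simp
    · exfalso
      have : p ∣ p ^ k := dvd_pow_self p hkpos.ne'
      have h7 := Nat.Coprime.eq_one_of_dvd hc.symm this
      exact hp.one_lt.ne' h7
  have h7 : z = 1 := orderOf_eq_one_iff.mp h6
  rw [hσd, h7, mul_one]

/-- The power trick: an extension `β` of a `p'`-automorphism `α` has a power that is a `p'`-automorphism and still
extends `α`. -/
theorem cop_exists_pprime_power {P Q : Subgroup Ω} [Finite Q] (hPQ : P ≤ Q) (p : ℕ) [Fact p.Prime]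
    (α : MulAut P) (β : MulAut Q)
    (hext : ∀ x : P, ((β (Subgroup.inclusion hPQ x) : Q) : Ω) = ((α x : P) : Ω))
    (hα : (orderOf α).Coprime p) :
    ∃ k : ℕ, (orderOf (β ^ k)).Coprime p ∧
      ∀ x : P, (((β ^ k) (Subgroup.inclusion hPQ x) : Q) : Ω) = ((α x : P) : Ω) := by
  have hp : p.Prime := Fact.out
  have : Finite P := Finite.of_injective (Subgroup.inclusion hPQ) (Subgroup.inclusion_injective hPQ)
  have : Finite (MulAut Q) := inferInstance
  have : Finite (MulAut P) := inferInstance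
  have hpow : ∀ (n : ℕ) (x : P), (((β ^ n) (Subgroup.inclusion hPQ x) : Q) : Ω) = (((α ^ n) x : P) : Ω) := by
    intro n
    induction n with
    | zero => intro x; simp
    | succ n ih =>
      intro x
      rw [pow_succ, pow_succ, MulAut.mul_apply, MulAut.mul_apply]
      have e : β (Subgroup.inclusion hPQ x) = Subgroup.inclusion hPQ (α x) := Subtype.ext (hext x)
      rw [e, ih]
  have hone : ∀ n : ℕ, β ^ n = 1 → α ^ n = 1 := by
    intro n hn
    ext x
    have := hpow n x
    rw [hn] at this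
    simpa using this.symm
  obtain ⟨k, l, e, hk, hl, hkl⟩ := Cfsg.Agent.CSE.cse_locA_exists_parts p β
  have hαl : α ^ l = 1 := by
    have h1 : (α ^ l) ^ p ^ e = 1 := by
      rw [← pow_mul]
      apply hone
      rw [pow_mul]
      exact hl
    have h2 : orderOf (α ^ l) ∣ p ^ e := orderOf_dvd_of_pow_eq_one h1
    have h3 : orderOf (α ^ l) ∣ orderOf α := orderOf_pow_dvd l
    have h4 : (orderOf (α ^ l)).Coprime (p ^ e) :=
      Nat.Coprime.pow_right e (Nat.Coprime.coprime_dvd_left h3 hα)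
    have h5 : orderOf (α ^ l) = 1 := Nat.Coprime.eq_one_of_dvd h4 h2
    exact orderOf_eq_one_iff.mp h5
  have hαk : α ^ k = α := by
    have h1 : ∀ x : P, (((α ^ (k + l)) x : P) : Ω) = ((α x : P) : Ω) := by
      intro x
      rw [← hpow (k + l) x, pow_add, hkl, hext x]
    have h2 : α ^ (k + l) = α := by
      ext x
      exact h1 x
    rw [pow_add, hαl, mul_one] at h2
    exact h2
  refine ⟨k, hk, fun x => ?_⟩
  rw [hpow k x, hαk]

/-- A map of `F` on `P ⊔ R` that restricts to an automorphism of `P` and maps `R` into `R` is an automorphism of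
`P ⊔ R` in `F`. -/
theorem cop_aut_of_hom [Finite S] (F : FusionSystem S) {P R : Subgroup Ω} (α : MulAut P)
    (ψ : ↥(P ⊔ R) →* Ω) (hψ : ψ ∈ F.Hom (P ⊔ R))
    (hext : ∀ x : P, ψ (Subgroup.inclusion le_sup_left x) = ((α x : P) : Ω))
    (hR : ∀ x : R, ψ (Subgroup.inclusion le_sup_right x) ∈ R) :
    ∃ β ∈ F.autGroup (P ⊔ R), ∀ x : ↥(P ⊔ R), ((β x : ↥(P ⊔ R)) : Ω) = ψ x := by
  have hQS : P ⊔ R ≤ S := Fusion.src_le F hψ
  have : Finite ↥(P ⊔ R) := Fusion.finite_of_le hQS
  have hinj : Function.Injective ψ := F.injective_of_mem hψ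
  have hle : ψ.range ≤ P ⊔ R := by
    rintro _ ⟨y, rfl⟩
    apply Fusion.sup_map_mem ψ (P ⊔ R)
    · intro x
      rw [hext x]
      exact Subgroup.mem_sup_left (α x).2
    · intro x
      exact Subgroup.mem_sup_right (hR x)
  have hcard : Nat.card ↥(P ⊔ R) ≤ Nat.card ψ.range := by
    have e : ↥(P ⊔ R) ≃ ψ.range := (MonoidHom.ofInjective hinj).toEquiv
    exact (Nat.card_congr e).le
  have hr : ψ.range = P ⊔ R := by
    have : Finite ↥ψ.range := Finite.of_injective (Subgroup.inclusion hle) (Subgroup.inclusion_injective hle)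
    exact Subgroup.eq_of_le_of_card_ge hle hcard
  exact Fusion.exists_aut_of_range_eq F hψ hr

end Cfsg.Agent.COP
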