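import Mathlib
import Cfsg.Prelude.Def_FusionComponents
import Cfsg.Agent.Lead.FusionKNorm6
import Cfsg.Agent.Lead.FusionCenterFactor
import Cfsg.Agent.Lead.FusionNormalCrit
import Cfsg.Agent.Lead.FusionWeak
import Cfsg.Agent.Lead.FusionExt
import Cfsg.Agent.Lead.FusionSat2
import Cfsg.Agent.CSE.Unique
import Cfsg.Agent.CFE.Frat
import Cfsg.Agent.CFE.Stab

/-!
COP project (S5150, architect helper4; chain in `notes/S5150_helper4.md`), piece P1 (helper7):
for a subgroup `R` normal in the saturated system `F`, the centralizer system `C_F(R)` is a NORMAL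
subsystem of `F`.
-/

set_option autoImplicit false

namespace Cfsg.Agent.COP

open Cfsg Cfsg.FusionSystem Cfsg.Agent.Lead

variable {Ω : Type*} [Group Ω] {S : Subgroup Ω}

/-- Invariance only depends on the sets of maps. -/
theorem cop_isInvariantIn_of_hom_iff {T : Subgroup Ω} (F : FusionSystem S) (E E' : FusionSystem T)
    (h : ∀ (P : Subgroup Ω) (φ : P →* Ω), φ ∈ E'.Hom P ↔ φ ∈ E.Hom P) (hE : E'.IsInvariantIn F) :
    E.IsInvariantIn F := by
  obtain ⟨h1, h2, h3, h4⟩ := hE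
  refine ⟨fun P φ hφ => h1 P ((h P φ).mpr hφ), h2, ?_, ?_⟩
  · intro P hPT φ hφ α hα
    obtain ⟨χ, hχ, hχx⟩ := h3 P hPT φ ((h P φ).mpr hφ) α hα
    exact ⟨χ, (h _ χ).mp hχ, hχx⟩
  · intro P hPT φ hφ
    obtain ⟨α, hα, φ₀, hφ₀, hx⟩ := h4 P hPT φ hφ
    exact ⟨α, hα, φ₀, (h P φ₀).mp hφ₀, hx⟩

/-- `C_S(R)` is strongly closed when `R` is normal in the system. -/
theorem cop_centralizerIn_stronglyClosed (F : FusionSystem S) {R : Subgroup Ω} (hR : F.IsNormal R) :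
    F.StronglyClosed (centralizerIn S R) := by
  refine ⟨inf_le_left, ?_⟩
  intro P hP φ hφ x
  obtain ⟨ψ, hψ, hψP, hψR⟩ := hR.2 P φ hφ
  rw [← hψP x]
  refine Subgroup.mem_inf.mpr ⟨Fusion.map_mem F hψ _, ?_⟩
  rw [Subgroup.mem_centralizer_iff]
  intro r hr
  have hr2 : r ∈ (R.subgroupOf (P ⊔ R)).map ψ := by rw [hψR]; exact hr
  obtain ⟨r', hr', rfl⟩ := hr2
  rw [SetLike.mem_coe, Subgroup.mem_subgroupOf] at hr'
  rw [← map_mul, ← map_mul]
  congr 1
  apply Subtype.ext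
  exact (Subgroup.mem_centralizer_iff.mp (Subgroup.mem_inf.mp (hP x.2)).2) (r' : Ω) hr'

/-- The join of two strongly closed subgroups is weakly closed. -/
theorem cop_sup_weaklyClosed [Finite S] (F : FusionSystem S) {Y R : Subgroup Ω}
    (hY : F.StronglyClosed Y) (hR : F.StronglyClosed R) : F.WeaklyClosed (Y ⊔ R) := by
  have hWS : Y ⊔ R ≤ S := sup_le hY.1 hR.1
  refine ⟨hWS, fun φ hφ => ?_⟩
  have : Finite ↥(Y ⊔ R) := Fusion.finite_of_le hWS
  apply Subgroup.eq_of_le_of_card_ge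
  · rw [MonoidHom.range_eq_map]
    have htop : (⊤ : Subgroup ↥(Y ⊔ R)) = Y.subgroupOf (Y ⊔ R) ⊔ R.subgroupOf (Y ⊔ R) := by
      rw [← Subgroup.subgroupOf_sup le_sup_left le_sup_right, Subgroup.subgroupOf_self]
    rw [htop, Subgroup.map_sup]
    apply sup_le_sup
    · rintro _ ⟨y, hy, rfl⟩
      rw [SetLike.mem_coe, Subgroup.mem_subgroupOf] at hy
      exact hY.2 Y le_rfl _ (Fusion.restrict_mem F hφ le_sup_left) ⟨y, hy⟩
    · rintro _ ⟨y, hy, rfl⟩
      rw [SetLike.mem_coe, Subgroup.mem_subgroupOf] at hy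
      exact hR.2 R le_rfl _ (Fusion.restrict_mem F hφ le_sup_right) ⟨y, hy⟩
  · rw [Nat.card_congr (Equiv.ofInjective φ (F.injective_of_mem hφ))]
    rfl

/-- A weakly closed subgroup is normal in `S`. -/
theorem cop_le_normalizer_of_weaklyClosed [Finite S] (F : FusionSystem S) {W : Subgroup Ω}
    (hW : F.WeaklyClosed W) : S ≤ Subgroup.normalizer (W : Set Ω) := by
  have : Finite W := Fusion.finite_of_le hW.1
  intro g hg
  apply mem_normalizer_of_conj_mem_of_finite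
  intro y hy
  have hr := hW.2 _ (F.conj_mem hW.1 hg)
  have : conjHom W g ⟨y, hy⟩ ∈ (conjHom W g).range := ⟨_, rfl⟩
  rw [hr] at this
  exact this

/-- The extension step: a map `ψ` of `F` on `Y ⊔ R` (`Y = C_S(R)`, `R` normal in `F`) that restricts to the
automorphism `α` of `Y` and to the identity of `R` extends to an automorphism of `Y ⊔ C_S(Y)` moving `C_S(Y)`
inside cosets of `Z(Y)`. -/
theorem cop_centralizer_ext_aux [Finite S] (p : ℕ) [Fact p.Prime] (hS : IsPGroup p S)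
    (F : FusionSystem S) (hF : F.IsSaturated p) {R : Subgroup Ω} (hR : F.IsNormal R)
    (Y X : Subgroup Ω) (hY : Y = centralizerIn S R) (hX : X = centralizerIn S Y)
    (α : MulAut Y) (ψ : ↥(Y ⊔ R) →* Ω) (hψ : ψ ∈ F.Hom (Y ⊔ R))
    (hψY : ∀ y : Y, ψ (Subgroup.inclusion le_sup_left y) = ((α y : Y) : Ω))
    (hψR : ∀ r : R, ψ (Subgroup.inclusion le_sup_right r) = (r : Ω)) :
    ∃ β ∈ F.autGroup (Y ⊔ X),
      (∀ x : Y, ((β (Subgroup.inclusion le_sup_left x) : ↥(Y ⊔ X)) : Ω) = ((α x : Y) : Ω)) ∧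
      ∀ c : ↥(Y ⊔ X), (c : Ω) ∈ X →
        (c : Ω)⁻¹ * ((β c : ↥(Y ⊔ X)) : Ω) ∈ Y ⊓ Subgroup.centralizer ((Y : Subgroup Ω) : Set Ω) := by
  have hRS : R ≤ S := hR.1
  have hRsc := Fusion.stronglyClosed_of_isNormal F hR
  have hYsc : F.StronglyClosed Y := by rw [hY]; exact cop_centralizerIn_stronglyClosed F hR
  have hYS : Y ≤ S := hYsc.1
  have hXS : X ≤ S := by rw [hX]; exact inf_le_left
  have hYR : ∀ y ∈ Y, ∀ r ∈ R, r * y = y * r := by
    intro y hy r hr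
    rw [hY] at hy
    exact (Subgroup.mem_centralizer_iff.mp (Subgroup.mem_inf.mp hy).2) r hr
  have hXY : ∀ g ∈ X, ∀ y ∈ Y, y * g = g * y := by
    intro g hg y hy
    rw [hX] at hg
    exact (Subgroup.mem_centralizer_iff.mp (Subgroup.mem_inf.mp hg).2) y hy
  have hYmem : ∀ z : Ω, z ∈ Y ↔ z ∈ S ∧ ∀ r ∈ R, r * z = z * r := by
    intro z
    rw [hY]
    unfold centralizerIn
    rw [Subgroup.mem_inf, Subgroup.mem_centralizer_iff]
    rfl
  have hXmem : ∀ z : Ω, z ∈ X ↔ z ∈ S ∧ ∀ y ∈ Y, y * z = z * y := by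
    intro z
    rw [hX]
    unfold centralizerIn
    rw [Subgroup.mem_inf, Subgroup.mem_centralizer_iff]
    rfl
  have hRX : R ≤ X := by
    intro r hr
    exact (hXmem r).mpr ⟨hRS hr, fun y hy => (hYR y hy r hr).symm⟩
  have hWS : Y ⊔ R ≤ S := sup_le hYS hRS
  have hMS : Y ⊔ X ≤ S := sup_le hYS hXS
  have hWM : Y ⊔ R ≤ Y ⊔ X := sup_le le_sup_left (hRX.trans le_sup_right)
  have hfinW : Finite ↥(Y ⊔ R) := Fusion.finite_of_le hWS
  have hfinM : Finite ↥(Y ⊔ X) := Fusion.finite_of_le hMS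
  -- `W` is weakly closed, hence receptive
  have hWwc := cop_sup_weaklyClosed F hYsc hRsc
  have hWrange : ψ.range = Y ⊔ R := hWwc.2 ψ hψ
  have hWfn := Fusion.fullyNormalized_of_weaklyClosed F hWwc
  have hWfc := (Fusion.fullyCentralized_fullyAutomized_of_fullyNormalized p hS F hF hWfn).1
  have hWrec := Fusion.receptive_of_fullyCentralized p hS F hF hWfc
  have hSW := cop_le_normalizer_of_weaklyClosed F hWwc
  have hSR := Fusion.le_normalizer_of_stronglyClosed F hRsc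
  obtain ⟨ψ', hψ', hext⟩ := hWrec.2 (Y ⊔ R) ψ hψ hWrange
  -- conjugation by `g ∈ X` commutes with `ψ`
  have hconj : ∀ g ∈ X, ∀ (w : ↥(Y ⊔ R)) (hw : g * (w : Ω) * g⁻¹ ∈ Y ⊔ R),
      ψ ⟨g * (w : Ω) * g⁻¹, hw⟩ = g * ψ w * g⁻¹ := by
    intro g hg
    have hgS : g ∈ S := hXS hg
    have hgC : ∀ y ∈ Y, g * y * g⁻¹ = y := by
      intro y hy
      rw [← hXY g hg y hy, mul_inv_cancel_right]
    have hgW : ∀ w : ↥(Y ⊔ R), g * (w : Ω) * g⁻¹ ∈ Y ⊔ R := fun w =>
      (Subgroup.mem_normalizer_iff.mp (hSW hgS) w).mp w.2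
    set γ : ↥(Y ⊔ R) →* ↥(Y ⊔ R) :=
      ((MulAut.conj g).toMonoidHom.comp (Y ⊔ R).subtype).codRestrict (Y ⊔ R) hgW with hγ
    have heq : ψ.comp γ = (MulAut.conj g).toMonoidHom.comp ψ := by
      apply Cfsg.Agent.CSE.cse_uni_ext
      · intro y
        show ψ ⟨g * (y : Ω) * g⁻¹, _⟩ = g * ψ (Subgroup.inclusion le_sup_left y) * g⁻¹
        rw [hψY, hgC _ (α y).2]
        have : (⟨g * (y : Ω) * g⁻¹, hgW (Subgroup.inclusion le_sup_left y)⟩ : ↥(Y ⊔ R)) =
            Subgroup.inclusion le_sup_left y := Subtype.ext (hgC _ y.2)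
        rw [this, hψY]
      · intro x hx
        show ψ ⟨g * (x : Ω) * g⁻¹, _⟩ = g * ψ x * g⁻¹
        have hx' : g * (x : Ω) * g⁻¹ ∈ R := (Subgroup.mem_normalizer_iff.mp (hSR hgS) x).mp hx
        have h1 := hψR ⟨g * (x : Ω) * g⁻¹, hx'⟩
        have h2 := hψR ⟨(x : Ω), hx⟩
        have e1 : (Subgroup.inclusion le_sup_right (⟨g * (x : Ω) * g⁻¹, hx'⟩ : R) : ↥(Y ⊔ R)) =
            ⟨g * (x : Ω) * g⁻¹, hgW x⟩ := Subtype.ext rfl
        have e2 : (Subgroup.inclusion le_sup_right (⟨(x : Ω), hx⟩ : R) : ↥(Y ⊔ R)) = x :=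
          Subtype.ext rfl
        rw [e1] at h1
        rw [e2] at h2
        rw [h1, h2]
    intro w hw
    have := DFunLike.congr_fun heq w
    exact this
  -- `Y ⊔ X` lies in the extender
  have hle : Y ⊔ X ≤ extender S (Y ⊔ R) ψ := by
    apply sup_le
    · exact le_sup_left.trans (Fusion.le_extender (Y ⊔ R) hWS ψ (fun x => Fusion.map_mem F hψ x))
    · intro g hg
      apply Subgroup.subset_closure
      exact ⟨hXS hg, hSW (hXS hg), g, hXS hg, fun x hx => hconj g hg x hx⟩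
  have hρ := Fusion.restrict_mem F hψ' hle
  set ρ : ↥(Y ⊔ X) →* Ω := ψ'.comp (Subgroup.inclusion hle) with hρdef
  have hρW : ∀ w : ↥(Y ⊔ R), ρ (Subgroup.inclusion hWM w) = ψ w := fun w =>
    hext w.1 w.2 (hle (hWM w.2))
  have hρY : ∀ y : Y, ρ (Subgroup.inclusion le_sup_left y) = ((α y : Y) : Ω) := by
    intro y
    rw [← hψY y, ← hρW]
    rfl
  -- the key commutator computation
  have hkey : ∀ c : ↥(Y ⊔ X), (c : Ω) ∈ X →
      (c : Ω)⁻¹ * ρ c ∈ Y ⊓ Subgroup.centralizer ((Y : Subgroup Ω) : Set Ω) := by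
    intro c hc
    have hcS : (c : Ω) ∈ S := hXS hc
    have hcent : ∀ w' ∈ Y ⊔ R, w' * ((c : Ω)⁻¹ * ρ c) = ((c : Ω)⁻¹ * ρ c) * w' := by
      intro w' hw'
      rw [← hWrange] at hw'
      obtain ⟨w, rfl⟩ := hw'
      have hcw : (c : Ω) * (w : Ω) * (c : Ω)⁻¹ ∈ Y ⊔ R :=
        (Subgroup.mem_normalizer_iff.mp (hSW hcS) w).mp w.2
      have h1 := hconj (c : Ω) hc w hcw
      have h2 : ρ (c * Subgroup.inclusion hWM w * c⁻¹) = ψ ⟨(c : Ω) * (w : Ω) * (c : Ω)⁻¹, hcw⟩ := by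
        rw [← hρW]
        rfl
      rw [map_mul, map_mul, map_inv, hρW, h1] at h2
      calc ψ w * ((c : Ω)⁻¹ * ρ c) = (c : Ω)⁻¹ * ((c : Ω) * ψ w * (c : Ω)⁻¹) * ρ c := by group
        _ = (c : Ω)⁻¹ * (ρ c * ψ w * (ρ c)⁻¹) * ρ c := by rw [h2]
        _ = ((c : Ω)⁻¹ * ρ c) * ψ w := by group
    have hzS : (c : Ω)⁻¹ * ρ c ∈ S := S.mul_mem (S.inv_mem hcS) (Fusion.map_mem F hρ c)
    refine Subgroup.mem_inf.mpr ⟨?_, ?_⟩
    · exact (hYmem _).mpr ⟨hzS, fun r hr => hcent r ((le_sup_right : R ≤ Y ⊔ R) hr)⟩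
    · rw [Subgroup.mem_centralizer_iff]
      intro y hy
      exact hcent y ((le_sup_left : Y ≤ Y ⊔ R) hy)
  -- `ρ` maps `Y ⊔ X` onto itself
  have hρrange : ρ.range = Y ⊔ X := by
    apply Subgroup.eq_of_le_of_card_ge
    · rw [MonoidHom.range_eq_map]
      have htop : (⊤ : Subgroup ↥(Y ⊔ X)) = Y.subgroupOf (Y ⊔ X) ⊔ X.subgroupOf (Y ⊔ X) := by
        rw [← Subgroup.subgroupOf_sup le_sup_left le_sup_right, Subgroup.subgroupOf_self]
      rw [htop, Subgroup.map_sup]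
      apply sup_le_sup
      · rintro _ ⟨y, hy, rfl⟩
        rw [SetLike.mem_coe, Subgroup.mem_subgroupOf] at hy
        have : y = Subgroup.inclusion le_sup_left (⟨(y : Ω), hy⟩ : Y) := Subtype.ext rfl
        rw [this, hρY]
        exact (α _).2
      · rintro _ ⟨c, hc, rfl⟩
        rw [SetLike.mem_coe, Subgroup.mem_subgroupOf] at hc
        have hz := hkey c hc
        have : ρ c = (c : Ω) * ((c : Ω)⁻¹ * ρ c) := by rw [mul_inv_cancel_left]
        rw [this]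
        refine X.mul_mem hc ((hXmem _).mpr ⟨hYS (Subgroup.mem_inf.mp hz).1, ?_⟩)
        exact Subgroup.mem_centralizer_iff.mp (Subgroup.mem_inf.mp hz).2
    · rw [Nat.card_congr (Equiv.ofInjective ρ (F.injective_of_mem hρ))]
      rfl
  obtain ⟨β, hβ, hβx⟩ := Fusion.exists_aut_of_range_eq F hρ hρrange
  refine ⟨β, hβ, ?_, ?_⟩
  · intro x
    rw [hβx, hρY]
  · intro c hc
    rw [hβx]
    exact hkey c hc

/-- The extension condition for `C_F(R)`, `R` normal in `F`. -/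
theorem cop_centralizer_ext [Finite S] (p : ℕ) [Fact p.Prime] (hS : IsPGroup p S)
    (F : FusionSystem S) (hF : F.IsSaturated p) {R : Subgroup Ω} (hR : F.IsNormal R)
    (CC : FusionSystem (centralizerIn S R)) (hCC : F.IsCentralizerSystem R CC)
    (α : MulAut ↥(centralizerIn S R)) (hα : α ∈ CC.autGroup (centralizerIn S R)) :
    ∃ β ∈ F.autGroup (centralizerIn S R ⊔ centralizerIn S (centralizerIn S R)),
      (∀ x : ↥(centralizerIn S R),
        ((β (Subgroup.inclusion le_sup_left x) :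
          ↥(centralizerIn S R ⊔ centralizerIn S (centralizerIn S R))) : Ω) =
            ((α x : ↥(centralizerIn S R)) : Ω)) ∧
      ∀ c : ↥(centralizerIn S R ⊔ centralizerIn S (centralizerIn S R)),
        (c : Ω) ∈ centralizerIn S (centralizerIn S R) →
        (c : Ω)⁻¹ * ((β c : ↥(centralizerIn S R ⊔ centralizerIn S (centralizerIn S R))) : Ω) ∈
          centralizerIn S R ⊓ Subgroup.centralizer ((centralizerIn S R : Subgroup Ω) : Set Ω) := by
  have hφ := (Fusion.mem_autGroup_iff CC (le_refl _) α).mp hα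
  rw [hCC _] at hφ
  obtain ⟨-, -, -, ψ, hψ, hψY, hψR⟩ := hφ
  exact cop_centralizer_ext_aux p hS F hF hR _ _ rfl rfl α ψ hψ hψY hψR

/-- P1: for `R` normal in the saturated system `F`, the centralizer system `C_F(R)` is normal in `F`. -/
theorem cop_centralizer_isNormalIn [Finite S] (p : ℕ) [Fact p.Prime] (hS : IsPGroup p S)
    (F : FusionSystem S) (hF : F.IsSaturated p) {R : Subgroup Ω} (hR : F.IsNormal R)
    (CC : FusionSystem (centralizerIn S R)) (hCC : F.IsCentralizerSystem R CC) :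
    CC.IsNormalIn F p := by
  have hRsc := Fusion.stronglyClosed_of_isNormal F hR
  have hYsc := cop_centralizerIn_stronglyClosed F hR
  have hRfn := Fusion.fullyNormalized_of_weaklyClosed F (Fusion.weaklyClosed_of_stronglyClosed F hRsc)
  have hRfc := (Fusion.fullyCentralized_fullyAutomized_of_fullyNormalized p hS F hF hRfn).1
  have hsat := Fusion.centralizerSystem_isSaturated p hS F hF R hRfc CC hCC
  have hY' : CC.StronglyClosed (centralizerIn S R) :=
    ⟨le_rfl, fun P _ φ hφ x => (CC.le_of_mem hφ).2 x⟩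
  have hinv0 : (Cfsg.Agent.WNE.wneRes CC hY').IsInvariantIn F := by
    refine ⟨fun P φ hφ => ?_, hYsc, ?_, ?_⟩
    · have h1 : φ ∈ CC.Hom P := hφ.1
      rw [hCC P] at h1
      exact h1.1
    · intro P hPY φ hφ α hα
      exact Cfsg.Agent.CFE.cfe_res_stable p hS F hF hRsc CC hCC hYsc le_rfl hY' P hPY φ hφ α hα
    · intro P hPY φ hφ
      exact Cfsg.Agent.CFE.cfe_res_frattini p hS F hF hRsc CC hCC hYsc le_rfl hY' P hPY φ hφ
  have hinv : CC.IsInvariantIn F := by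
    refine cop_isInvariantIn_of_hom_iff F CC _ (fun P φ => ?_) hinv0
    rw [Cfsg.Agent.WNE.mem_wneRes]
    exact ⟨fun h => h.1, fun h => ⟨h, (CC.le_of_mem h).1⟩⟩
  exact ⟨⟨hsat, hF, hinv⟩, fun α hα => cop_centralizer_ext p hS F hF hR CC hCC α hα⟩

end Cfsg.Agent.COP
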