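import Mathlib
import Cfsg.Prelude.Def_FusionComponents
import Cfsg.Agent.Lead.FusionSeries

set_option autoImplicit false

/-!
# S5150, piece (L1): `R ∩ T` is normal in `D`

`R` a normal subgroup of the saturated system `F`, `D` a normal subsystem of `F` over `T`.  Then
`R ∩ T` is a normal subgroup of `D` (chain criterion).
-/

namespace Cfsg.Agent.COP

open Cfsg Cfsg.FusionSystem Cfsg.Agent.Lead

variable {Ω : Type*} [Group Ω]

theorem cop_inf_isNormal {S T : Subgroup Ω} [Finite S] (p : ℕ) [Fact p.Prime] (hS : IsPGroup p S)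
    (F : FusionSystem S) (hF : F.IsSaturated p) (D : FusionSystem T) (hD : D.IsNormalIn F p)
    (R : Subgroup Ω) (hR : F.IsNormal R) : D.IsNormal (R ⊓ T) := by
  have hDs : D.IsSaturated p := hD.1.1
  have hDF : D.IsSubsystemOf F := hD.1.2.2.1
  have hTS : T ≤ S := hD.1.2.2.2.1.1
  have : Finite T := Fusion.finite_of_le hTS
  have hT : IsPGroup p T := hS.to_le hTS
  obtain ⟨n, Qs, h0, hlast, hmono, hstep⟩ := (Fusion.isNormal_iff_chain p hS F hF R).mp hR
  rw [Fusion.isNormal_iff_chain p hT D hDs (R ⊓ T)]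
  refine ⟨n, fun i => Qs i ⊓ T, ?_, ?_, ?_, ?_⟩
  · show Qs 0 ⊓ T = ⊥
    rw [h0, bot_inf_eq]
  · show Qs (Fin.last n) ⊓ T = R ⊓ T
    rw [hlast]
  · intro i j hij
    exact inf_le_inf_right T (hmono hij)
  · intro i
    obtain ⟨hsc, hcomm⟩ := hstep i
    refine ⟨⟨inf_le_right, fun P hP φ hφ x => ?_⟩, ?_⟩
    · exact ⟨hsc.2 P (hP.trans inf_le_left) φ (hDF P hφ) x, (D.le_of_mem hφ).2 x⟩
    · refine le_inf ?_ ?_
      · exact (Subgroup.commutator_mono inf_le_left inf_le_left).trans hcomm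
      · rw [Subgroup.commutator_le]
        intro a ha b hb
        exact T.mul_mem (T.mul_mem (T.mul_mem ha.2 hb.2) (T.inv_mem ha.2)) (T.inv_mem hb.2)

end Cfsg.Agent.COP
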