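import Mathlib
import Cfsg.Prelude.Def_FusionComponents
import Cfsg.Agent.CSE.Basic
import Cfsg.Agent.CSE.Restrict
import Cfsg.Agent.CSE.LocalA
import Cfsg.Agent.Lead.FusionKNorm6
import Cfsg.Agent.Lead.FusionStrongInvB
import Cfsg.Agent.Lead.FusionStrongInvD
import Cfsg.Agent.Lead.FusionNormalCrit
import Cfsg.Agent.Lead.FusionStab

/-!
S5150 (`notes/S5150_helper4.md`), piece P2, base case of Lemma X (helper2).

`D` normal in the saturated system `F` over `T`, `R` a normal subgroup of `F`.  Every `p'`-element `α` of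
`Aut_D(T)` extends to a map of `F` on `T R` moving every element of `R` inside its coset of `T`.
Also: the coprime chain lemma with a normal (not necessarily central) bottom term, and the extension of an
automorphism of `F` over a normal subgroup.
-/

set_option autoImplicit false
set_option linter.unusedVariables false

namespace Cfsg.Agent.COP

open Cfsg Cfsg.FusionSystem Cfsg.Agent.Lead Cfsg.Agent.CSE

variable {Ω : Type*} [Group Ω] {S : Subgroup Ω}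

/-- Coprime action on a chain with a normal bottom term: an automorphism `σ` of order prime to `p` which moves
every element of `D` inside its coset of `E₁` and every element of `E₁` inside its coset of the `σ`-invariant
subgroup `N`, where `E₁` normalizes `N` and consists of `p`-elements, moves every element of `D` inside its coset
of `N`. -/
theorem cop_chain_normal {Y : Type*} [Group Y] (p : ℕ) [Fact p.Prime] (σ : MulAut Y)
    (hσ : (orderOf σ).Coprime p) (D E₁ N : Subgroup Y)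
    (hnorm : ∀ e ∈ E₁, ∀ z ∈ N, e⁻¹ * z * e ∈ N)
    (hE₁p : ∀ e ∈ E₁, ∃ k : ℕ, orderOf e = p ^ k)
    (h1 : ∀ d ∈ D, d⁻¹ * σ d ∈ E₁) (h2 : ∀ e ∈ E₁, e⁻¹ * σ e ∈ N) (h3 : ∀ z ∈ N, σ z ∈ N)
    (d : Y) (hd : d ∈ D) : d⁻¹ * σ d ∈ N := by
  set e := d⁻¹ * σ d with he
  have heE : e ∈ E₁ := h1 d hd
  set z' := e⁻¹ * σ e with hz'
  have hz'N : z' ∈ N := h2 e heE
  have hσe : σ e = e * z' := by rw [hz']; group
  have hσd : σ d = d * e := by rw [he]; group
  -- powers of `e z'`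
  have hpowE : ∀ k : ℕ, e ^ k ∈ E₁ := fun k => E₁.pow_mem heE k
  have keyA : ∀ k : ℕ, ∃ z ∈ N, (e * z') ^ k = e ^ k * z := by
    intro k
    induction k with
    | zero => exact ⟨1, N.one_mem, by simp⟩
    | succ k ih =>
      obtain ⟨z, hz, hk⟩ := ih
      refine ⟨e⁻¹ * z * e * z', N.mul_mem (hnorm e heE z hz) hz'N, ?_⟩
      rw [pow_succ, hk, pow_succ]
      group
  have keyB : ∀ k : ℕ, ∃ z ∈ N, (σ ^ k) d = d * e ^ k * z := by
    intro k
    induction k with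
    | zero => exact ⟨1, N.one_mem, by simp⟩
    | succ k ih =>
      obtain ⟨z, hz, hk⟩ := ih
      obtain ⟨z₁, hz₁, hk₁⟩ := keyA k
      refine ⟨z₁ * σ z, N.mul_mem hz₁ (h3 z hz), ?_⟩
      rw [pow_succ', MulAut.mul_apply, hk, map_mul, map_mul, map_pow, hσd, hσe, hk₁, pow_succ']
      group
  obtain ⟨z, hz, hk⟩ := keyB (orderOf σ)
  rw [pow_orderOf_eq_one, MulAut.one_apply] at hk
  have hen : e ^ orderOf σ ∈ N := by
    have h4 : e ^ orderOf σ = z⁻¹ := by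
      have h5 : d * (e ^ orderOf σ * z) = d * 1 := by rw [mul_one, ← mul_assoc]; exact hk.symm
      exact eq_inv_of_mul_eq_one_left (mul_left_cancel h5)
    rw [h4]; exact N.inv_mem hz
  obtain ⟨j, hj⟩ := hE₁p e heE
  have hcop : (orderOf σ).Coprime (orderOf e) := by
    rw [hj]; exact Nat.Coprime.pow_right j hσ
  obtain ⟨m, hm⟩ := exists_pow_eq_self_of_coprime hcop
  rw [← hm]
  exact N.pow_mem hen m

/-- Powers of compatible automorphisms are compatible. -/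
theorem cop_base_pow_incl {A B : Subgroup Ω} (hAB : A ≤ B) (g : MulAut A) (gh : MulAut B)
    (h : ∀ x : A, gh (Subgroup.inclusion hAB x) = Subgroup.inclusion hAB (g x)) (n : ℕ) (x : A) :
    (gh ^ n) (Subgroup.inclusion hAB x) = Subgroup.inclusion hAB ((g ^ n) x) := by
  induction n generalizing x with
  | zero => simp
  | succ n ih => rw [pow_succ, pow_succ, MulAut.mul_apply, MulAut.mul_apply, h, ih]

/-- An automorphism of `F` extends over a normal subgroup of `F`. -/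
theorem cop_exists_aut_ext [Finite S] (F : FusionSystem S) {R : Subgroup Ω} (hR : F.IsNormal R)
    {Q : Subgroup Ω} (hQS : Q ≤ S) (g : MulAut Q) (hg : g ∈ F.autGroup Q) :
    ∃ gh ∈ F.autGroup (Q ⊔ R), ∀ x : Q,
      gh (Subgroup.inclusion le_sup_left x) = Subgroup.inclusion le_sup_left (g x) := by
  have hle : Q ⊔ R ≤ S := sup_le hQS hR.1
  have : Finite ↥(Q ⊔ R) := Fusion.finite_of_le hle
  have hφ := (Fusion.mem_autGroup_iff F hQS g).mp hg
  obtain ⟨ψ, hψ, hψQ, hψR⟩ := hR.2 Q _ hφ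
  have hmem : ∀ z : ↥(Q ⊔ R), ψ z ∈ Q ⊔ R := by
    apply Fusion.sup_map_mem ψ
    · intro x
      rw [hψQ]
      exact (le_sup_left : Q ≤ Q ⊔ R) (g x).2
    · intro y
      have h1 : ψ (Subgroup.inclusion le_sup_right y) ∈ (R.subgroupOf (Q ⊔ R)).map ψ :=
        ⟨_, by rw [SetLike.mem_coe, Subgroup.mem_subgroupOf]; exact y.2, rfl⟩
      rw [hψR] at h1
      exact (le_sup_right : R ≤ Q ⊔ R) h1
  obtain ⟨κ, hκ⟩ := exists_mulAut_of_injective ψ (F.injective_of_mem hψ) hmem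
  refine ⟨κ, ?_, ?_⟩
  · rw [Fusion.mem_autGroup_iff F hle]
    convert hψ using 1
    ext z
    exact (hκ z).symm
  · intro x
    apply Subtype.ext
    rw [← hκ, hψQ]
    rfl

/-- The elements of `Y` moved by `δ` inside their coset of `T` (normalized by `Y`), as a subgroup of `Ω`. -/
def copMoved {Y : Subgroup Ω} (T : Subgroup Ω) (hT : ∀ y ∈ Y, ∀ t ∈ T, y⁻¹ * t * y ∈ T)
    (δ : MulAut Y) : Subgroup Ω where
  carrier := {x | ∃ h : x ∈ Y, x⁻¹ * ((δ ⟨x, h⟩ : Y) : Ω) ∈ T}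
  one_mem' := by
    refine ⟨Y.one_mem, ?_⟩
    have h1 : (⟨1, Y.one_mem⟩ : Y) = 1 := rfl
    rw [h1, map_one]
    simp
  mul_mem' := by
    rintro x y ⟨hx, hx'⟩ ⟨hy, hy'⟩
    refine ⟨Y.mul_mem hx hy, ?_⟩
    have h1 : (⟨x * y, Y.mul_mem hx hy⟩ : Y) = ⟨x, hx⟩ * ⟨y, hy⟩ := rfl
    rw [h1, map_mul]
    have h2 : (x * y)⁻¹ * (((δ ⟨x, hx⟩ * δ ⟨y, hy⟩ : Y)) : Ω) =
        (y⁻¹ * (x⁻¹ * ((δ ⟨x, hx⟩ : Y) : Ω)) * y) * (y⁻¹ * ((δ ⟨y, hy⟩ : Y) : Ω)) := by
      show (x * y)⁻¹ * (((δ ⟨x, hx⟩ : Y) : Ω) * ((δ ⟨y, hy⟩ : Y) : Ω)) = _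
      group
    rw [h2]
    exact T.mul_mem (hT y hy _ hx') hy'
  inv_mem' := by
    rintro x ⟨hx, hx'⟩
    refine ⟨Y.inv_mem hx, ?_⟩
    have h1 : (⟨x⁻¹, Y.inv_mem hx⟩ : Y) = (⟨x, hx⟩ : Y)⁻¹ := rfl
    rw [h1, map_inv]
    have h2 : (x⁻¹)⁻¹ * (((δ ⟨x, hx⟩ : Y)⁻¹ : Y) : Ω) =
        (x⁻¹)⁻¹ * (x⁻¹ * ((δ ⟨x, hx⟩ : Y) : Ω))⁻¹ * x⁻¹ := by
      show (x⁻¹)⁻¹ * (((δ ⟨x, hx⟩ : Y) : Ω))⁻¹ = _
      group
    rw [h2]
    exact hT x⁻¹ (Y.inv_mem hx) _ (T.inv_mem hx')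

theorem cop_mem_moved {Y : Subgroup Ω} (T : Subgroup Ω) (hT : ∀ y ∈ Y, ∀ t ∈ T, y⁻¹ * t * y ∈ T)
    (δ : MulAut Y) (x : Ω) :
    x ∈ copMoved T hT δ ↔ ∃ h : x ∈ Y, x⁻¹ * ((δ ⟨x, h⟩ : Y) : Ω) ∈ T := Iff.rfl

/-- `Inn(T)` is normalized by every automorphism of `T`. -/
theorem cop_base_inn_conj {T : Subgroup Ω} (γ u : MulAut T) (hu : u ∈ autInducedBy T T) :
    γ * u * γ⁻¹ ∈ autInducedBy T T := by
  obtain ⟨g, hg, hgu⟩ := (mem_autInducedBy_iff T T u).mp hu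
  rw [mem_autInducedBy_iff]
  refine ⟨((γ ⟨g, hg⟩ : T) : Ω), (γ ⟨g, hg⟩).2, fun x => ?_⟩
  show ((γ (u (γ⁻¹ x)) : T) : Ω) = _
  have h1 : u (γ⁻¹ x) = ⟨g, hg⟩ * γ⁻¹ x * (⟨g, hg⟩ : T)⁻¹ := Subtype.ext (hgu (γ⁻¹ x))
  rw [h1, map_mul, map_mul, map_inv, MulAut.apply_inv_self]
  rfl

/-- A `p`-element of `Aut_D(T)` (`D` saturated over `T`) is inner. -/
theorem cop_base_mem_inn [Finite S] (p : ℕ) [Fact p.Prime] {T : Subgroup Ω} (hTS : T ≤ S)
    (hT : IsPGroup p T) (D : FusionSystem T) (hD : D.IsSaturated p) (a : MulAut T)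
    (ha : a ∈ D.autGroup T) (n : ℕ) (han : a ^ p ^ n = 1) : a ∈ autInducedBy T T := by
  have : Finite T := Fusion.finite_of_le hTS
  have hfn : D.IsFullyNormalized T := by
    refine ⟨le_rfl, fun Q _ => ?_⟩
    have hle : normalizerIn T Q ≤ normalizerIn T T :=
      inf_le_left.trans (le_inf le_rfl Subgroup.le_normalizer)
    have : Finite ↥(normalizerIn T T) :=
      Fusion.finite_of_le ((inf_le_left : normalizerIn T T ≤ T).trans hTS)
    exact Nat.card_le_card_of_injective (Subgroup.inclusion hle) (Subgroup.inclusion_injective hle)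
  have hfa := (Fusion.fullyCentralized_fullyAutomized_of_fullyNormalized p hT D hD hfn).2
  obtain ⟨Rs, hRs⟩ := hfa.2
  set a' : D.autGroup T := ⟨a, ha⟩ with ha'
  have hpl : IsPGroup p (Subgroup.zpowers a') := by
    rintro ⟨y, hy⟩
    obtain ⟨m, rfl⟩ := Subgroup.mem_zpowers_iff.mp hy
    refine ⟨n, Subtype.ext ?_⟩
    have hce : a' ^ p ^ n = 1 := Subtype.ext han
    show (a' ^ m) ^ p ^ n = 1
    rw [← zpow_natCast, ← zpow_mul, mul_comm, zpow_mul, zpow_natCast, hce, one_zpow]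
  have hnorm : a' ∈ Subgroup.normalizer ((Rs : Subgroup (D.autGroup T)) : Set _) := by
    rw [Subgroup.mem_normalizer_iff]
    intro h
    rw [hRs, Subgroup.mem_subgroupOf, Subgroup.mem_subgroupOf]
    constructor
    · intro hh
      exact cop_base_inn_conj a h.1 hh
    · intro hh
      have h1 := cop_base_inn_conj a⁻¹ _ hh
      have h2 : a⁻¹ * ((a' * h * a'⁻¹ : D.autGroup T) : MulAut T) * a⁻¹⁻¹ = h.1 := by
        show a⁻¹ * (a * h.1 * a⁻¹) * a⁻¹⁻¹ = h.1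
        group
      rwa [h2] at h1
  have hsup : IsPGroup p (Subgroup.zpowers a' ⊔ (Rs : Subgroup (D.autGroup T)) :
      Subgroup (D.autGroup T)) :=
    hpl.to_sup_of_normal_right' Rs.isPGroup' (Subgroup.zpowers_le.mpr hnorm)
  have heq := Rs.is_maximal' hsup le_sup_right
  have hal : a' ∈ (Rs : Subgroup (D.autGroup T)) := by
    rw [← heq]
    exact (le_sup_left : Subgroup.zpowers a' ≤ _) (Subgroup.mem_zpowers _)
  rw [hRs, Subgroup.mem_subgroupOf] at hal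
  exact hal

/-- Base case of Lemma X: a `p'`-element of `Aut_D(T)` extends to a map of `F` on `T R` moving every element of
the normal subgroup `R` of `F` inside its coset of `T`. -/
theorem cop_lemmaX_base [Finite S] (p : ℕ) [Fact p.Prime] (hS : IsPGroup p S) (F : FusionSystem S)
    (hF : F.IsSaturated p) {T : Subgroup Ω} (D : FusionSystem T) (hD : D.IsNormalIn F p)
    {R : Subgroup Ω} (hR : F.IsNormal R) (α : MulAut T) (hα : α ∈ D.autGroup T)
    (hcop : (orderOf α).Coprime p) :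
    ∃ φh ∈ F.Hom (T ⊔ R), (∀ x : T, φh (Subgroup.inclusion le_sup_left x) = ((α x : T) : Ω)) ∧
      ∀ x : ↥(T ⊔ R), (x : Ω) ∈ R → (x : Ω)⁻¹ * φh x ∈ T := by
  have hp : p.Prime := Fact.out
  have hDsat : D.IsSaturated p := hD.1.1
  have hinv : D.IsInvariantIn F := hD.1.2.2
  have hTsc : F.StronglyClosed T := hinv.2.1
  have hTS : T ≤ S := hTsc.1
  have hRS : R ≤ S := hR.1
  have hRsc : F.StronglyClosed R := Fusion.stronglyClosed_of_isNormal F hR
  have hCS : centralizerIn S T ≤ S := inf_le_left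
  have hXS : T ⊔ centralizerIn S T ≤ S := sup_le hTS hCS
  have hXRS : T ⊔ centralizerIn S T ⊔ R ≤ S := sup_le hXS hRS
  have hTXR : T ≤ T ⊔ centralizerIn S T ⊔ R := le_sup_left.trans le_sup_left
  have hTN : S ≤ Subgroup.normalizer (T : Set Ω) := Fusion.le_normalizer_of_stronglyClosed F hTsc
  have hTn : ∀ y ∈ S, ∀ t ∈ T, y⁻¹ * t * y ∈ T := by
    intro y hy t ht
    have h1 := (Subgroup.mem_normalizer_iff.mp (hTN (S.inv_mem hy)) t).mp ht
    rwa [inv_inv] at h1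
  have : Finite T := Fusion.finite_of_le hTS
  have : Finite ↥(T ⊔ centralizerIn S T) := Fusion.finite_of_le hXS
  have : Finite ↥(T ⊔ centralizerIn S T ⊔ R) := Fusion.finite_of_le hXRS
  have : Finite (MulAut ↥(T ⊔ centralizerIn S T ⊔ R)) := inferInstance
  have : Finite (MulAut T) := inferInstance
  -- the extension condition
  obtain ⟨β, hβ, hβT, hβC⟩ := hD.2 α hα
  have hgood : CseGood F T (centralizerIn S T) α β := ⟨hβ, hβT, hβC⟩
  -- extend over `R`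
  obtain ⟨αt, hαt, hαtX⟩ := cop_exists_aut_ext F hR hXS β hβ
  have hαtT : ∀ t : T, αt (Subgroup.inclusion hTXR t) = Subgroup.inclusion hTXR (α t) := by
    intro t
    have h1 : Subgroup.inclusion hTXR t =
        Subgroup.inclusion le_sup_left (Subgroup.inclusion le_sup_left t :
          ↥(T ⊔ centralizerIn S T)) := rfl
    rw [h1, hαtX]
    apply Subtype.ext
    exact hβT t
  -- the `p'`-part
  obtain ⟨k, l, e, hk, hl, hkl⟩ := cse_locA_exists_parts p αt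
  have hαl : α ^ l = 1 := by
    have h1 : (α ^ l) ^ p ^ e = 1 := by
      ext t
      have h2 := cop_base_pow_incl hTXR α αt hαtT (l * p ^ e) t
      rw [pow_mul, hl, MulAut.one_apply] at h2
      have h3 := congrArg (fun y : ↥(T ⊔ centralizerIn S T ⊔ R) => (y : Ω)) h2
      rw [← pow_mul]
      exact h3.symm
    have h4 : orderOf (α ^ l) ∣ p ^ e := orderOf_dvd_of_pow_eq_one h1
    have h5 : orderOf (α ^ l) ∣ orderOf α := orderOf_pow_dvd l
    have h6 : (orderOf (α ^ l)).Coprime (p ^ e) :=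
      Nat.Coprime.pow_right e (Nat.Coprime.coprime_dvd_left h5 hcop)
    have h7 : orderOf (α ^ l) = 1 := Nat.Coprime.eq_one_of_dvd h6 h4
    exact orderOf_eq_one_iff.mp h7
  have hαk : α ^ k = α := by
    ext t
    have h1 := cop_base_pow_incl hTXR α αt hαtT k ((α ^ l) t)
    have h2 := cop_base_pow_incl hTXR α αt hαtT l t
    have h3 : (αt ^ k * αt ^ l) (Subgroup.inclusion hTXR t) = Subgroup.inclusion hTXR (α t) := by
      rw [hkl, hαtT]
    rw [MulAut.mul_apply, h2, h1, hαl, MulAut.one_apply] at h3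
    exact congrArg (fun y : ↥(T ⊔ centralizerIn S T ⊔ R) => (y : Ω)) h3
  obtain ⟨δ, hδdef⟩ : ∃ δ : MulAut ↥(T ⊔ centralizerIn S T ⊔ R), δ = αt ^ k := ⟨_, rfl⟩
  have hδord : (orderOf δ).Coprime p := by rw [hδdef]; exact hk
  have hδmem : δ ∈ F.autGroup (T ⊔ centralizerIn S T ⊔ R) := by
    rw [hδdef]; exact Subgroup.pow_mem _ hαt k
  have hδX : ∀ x : ↥(T ⊔ centralizerIn S T), δ (Subgroup.inclusion le_sup_left x) =
      Subgroup.inclusion le_sup_left ((β ^ k) x) := by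
    intro x
    rw [hδdef]
    exact cop_base_pow_incl le_sup_left β αt hαtX k x
  have hδT : ∀ t : T, δ (Subgroup.inclusion hTXR t) = Subgroup.inclusion hTXR (α t) := by
    intro t
    rw [hδdef, cop_base_pow_incl hTXR α αt hαtT k t, hαk]
  have hgoodk : CseGood F T (centralizerIn S T) (α ^ k) (β ^ k) := cse_good_pow F hgood k
  -- the elements moved inside their `T`-coset
  have hTnY : ∀ y ∈ T ⊔ centralizerIn S T ⊔ R, ∀ t ∈ T, y⁻¹ * t * y ∈ T :=
    fun y hy t ht => hTn y (hXRS hy) t ht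
  have hXK : T ⊔ centralizerIn S T ≤ copMoved T hTnY δ := by
    apply sup_le
    · intro t ht
      refine ⟨hTXR ht, ?_⟩
      have h1 : (⟨t, hTXR ht⟩ : ↥(T ⊔ centralizerIn S T ⊔ R)) =
          Subgroup.inclusion hTXR ⟨t, ht⟩ := rfl
      rw [h1, hδT]
      exact T.mul_mem (T.inv_mem ht) (α ⟨t, ht⟩).2
    · intro c hc
      have hcX : c ∈ T ⊔ centralizerIn S T := (le_sup_right : centralizerIn S T ≤ _) hc
      refine ⟨le_sup_left (a := T ⊔ centralizerIn S T) hcX, ?_⟩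
      have h1 : (⟨c, le_sup_left (a := T ⊔ centralizerIn S T) hcX⟩ :
          ↥(T ⊔ centralizerIn S T ⊔ R)) = Subgroup.inclusion le_sup_left
            (⟨c, hcX⟩ : ↥(T ⊔ centralizerIn S T)) := rfl
      rw [h1, hδX]
      exact cseZ_le T (hgoodk.2.2 ⟨c, hcX⟩ hc)
  -- `[R, δ] ≤ X`
  have hRX : ∀ r : ↥(T ⊔ centralizerIn S T ⊔ R), (r : Ω) ∈ R →
      (r : Ω)⁻¹ * ((δ r : ↥(T ⊔ centralizerIn S T ⊔ R)) : Ω) ∈ T ⊔ centralizerIn S T := by
    intro r hr
    have hrS : (r : Ω) ∈ S := hXRS r.2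
    have hδrS : ((δ r : ↥(T ⊔ centralizerIn S T ⊔ R)) : Ω) ∈ S := hXRS (δ r).2
    have hrN : (r : Ω) ∈ Subgroup.normalizer (T : Set Ω) := hTN hrS
    have hδrN : ((δ r : ↥(T ⊔ centralizerIn S T ⊔ R)) : Ω) ∈ Subgroup.normalizer (T : Set Ω) :=
      hTN hδrS
    set cr : MulAut T := conjAutHom T ⟨(r : Ω), hrN⟩ with hcr
    set cδ : MulAut T := conjAutHom T ⟨((δ r : ↥(T ⊔ centralizerIn S T ⊔ R)) : Ω), hδrN⟩ with hcδ
    have hconj : α * cr * α⁻¹ = cδ := by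
      ext t
      show ((α (cr (α⁻¹ t)) : T) : Ω) =
        ((δ r : ↥(T ⊔ centralizerIn S T ⊔ R)) : Ω) * (t : Ω) *
          ((δ r : ↥(T ⊔ centralizerIn S T ⊔ R)) : Ω)⁻¹
      have h1 : Subgroup.inclusion hTXR (cr (α⁻¹ t)) =
          r * Subgroup.inclusion hTXR (α⁻¹ t) * r⁻¹ := Subtype.ext rfl
      have h2 := hδT (cr (α⁻¹ t))
      rw [h1, map_mul, map_mul, map_inv, hδT, MulAut.apply_inv_self] at h2
      exact (congrArg (fun y : ↥(T ⊔ centralizerIn S T ⊔ R) => (y : Ω)) h2).symm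
    have hρN : (r : Ω)⁻¹ * ((δ r : ↥(T ⊔ centralizerIn S T ⊔ R)) : Ω) ∈
        Subgroup.normalizer (T : Set Ω) :=
      Subgroup.mul_mem _ (Subgroup.inv_mem _ hrN) hδrN
    have hcρ : conjAutHom T ⟨(r : Ω)⁻¹ * ((δ r : ↥(T ⊔ centralizerIn S T ⊔ R)) : Ω), hρN⟩ =
        cr⁻¹ * cδ := by
      rw [hcr, hcδ, ← map_inv, ← map_mul]
      rfl
    have hcrF : cr ∈ F.autGroup T :=
      Fusion.autInducedBy_le_autGroup F hTS (Fusion.conjAutHom_mem_autInducedBy T _ hrS)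
    have hcρD : cr⁻¹ * cδ ∈ D.autGroup T := by
      have h1 := StrongInv.conj_mem_autGroup F D (StrongInv.SI_of_invariant F D hinv) hTS le_rfl
        cr⁻¹ α ((F.autGroup T).inv_mem hcrF) hα
      have h2 : cr⁻¹ * cδ = (cr⁻¹ * α * cr⁻¹⁻¹) * α⁻¹ := by
        rw [← hconj]; group
      rw [h2]
      exact (D.autGroup T).mul_mem h1 ((D.autGroup T).inv_mem hα)
    have hcρS : cr⁻¹ * cδ ∈ autInducedBy S T := by
      rw [← hcρ]
      exact Fusion.conjAutHom_mem_autInducedBy T _ (S.mul_mem (S.inv_mem hrS) hδrS)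
    obtain ⟨n, hn⟩ := (Fusion.isPGroup_autInducedBy p hS T) ⟨cr⁻¹ * cδ, hcρS⟩
    have hn' : (cr⁻¹ * cδ) ^ p ^ n = 1 := congrArg Subtype.val hn
    have hinn := cop_base_mem_inn p hTS (hS.to_le hTS) D hDsat _ hcρD n hn'
    obtain ⟨t, ht, htx⟩ := (mem_autInducedBy_iff T T _).mp hinn
    rw [← hcρ] at htx
    -- `t⁻¹ ρ` centralizes `T`
    have hcent : t⁻¹ * ((r : Ω)⁻¹ * ((δ r : ↥(T ⊔ centralizerIn S T ⊔ R)) : Ω)) ∈
        centralizerIn S T := by
      rw [cse_locA_mem_centralizerIn]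
      refine ⟨S.mul_mem (S.inv_mem (hTS ht)) (S.mul_mem (S.inv_mem hrS) hδrS), ?_⟩
      intro u hu
      have h1 := htx ⟨u, hu⟩
      have h2 : ((r : Ω)⁻¹ * ((δ r : ↥(T ⊔ centralizerIn S T ⊔ R)) : Ω)) * u *
          ((r : Ω)⁻¹ * ((δ r : ↥(T ⊔ centralizerIn S T ⊔ R)) : Ω))⁻¹ = t * u * t⁻¹ := h1
      have h3 : ((r : Ω)⁻¹ * ((δ r : ↥(T ⊔ centralizerIn S T ⊔ R)) : Ω)) * u =
          t * u * t⁻¹ * ((r : Ω)⁻¹ * ((δ r : ↥(T ⊔ centralizerIn S T ⊔ R)) : Ω)) := by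
        rw [← h2]; group
      calc u * (t⁻¹ * ((r : Ω)⁻¹ * ((δ r : ↥(T ⊔ centralizerIn S T ⊔ R)) : Ω)))
          = t⁻¹ * (t * u * t⁻¹ * ((r : Ω)⁻¹ * ((δ r : ↥(T ⊔ centralizerIn S T ⊔ R)) : Ω))) := by
            group
        _ = t⁻¹ * (((r : Ω)⁻¹ * ((δ r : ↥(T ⊔ centralizerIn S T ⊔ R)) : Ω)) * u) := by rw [h3]
        _ = t⁻¹ * ((r : Ω)⁻¹ * ((δ r : ↥(T ⊔ centralizerIn S T ⊔ R)) : Ω)) * u := by group
    have h4 : (r : Ω)⁻¹ * ((δ r : ↥(T ⊔ centralizerIn S T ⊔ R)) : Ω) =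
        t * (t⁻¹ * ((r : Ω)⁻¹ * ((δ r : ↥(T ⊔ centralizerIn S T ⊔ R)) : Ω))) := by group
    rw [h4]
    exact Subgroup.mul_mem_sup ht hcent
  -- the coprime chain
  have hchain : ∀ d : ↥(T ⊔ centralizerIn S T ⊔ R), (d : Ω) ∈ R →
      (d : Ω)⁻¹ * ((δ d : ↥(T ⊔ centralizerIn S T ⊔ R)) : Ω) ∈ T := by
    intro d hd
    have h0 := cop_chain_normal p δ hδord (R.subgroupOf (T ⊔ centralizerIn S T ⊔ R))
      ((R ⊓ (T ⊔ centralizerIn S T)).subgroupOf (T ⊔ centralizerIn S T ⊔ R))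
      (T.subgroupOf (T ⊔ centralizerIn S T ⊔ R)) ?_ ?_ ?_ ?_ ?_ d
      (Subgroup.mem_subgroupOf.mpr hd)
    · exact Subgroup.mem_subgroupOf.mp h0
    · intro e _ z hz
      rw [Subgroup.mem_subgroupOf] at hz ⊢
      exact hTn (e : Ω) (hXRS e.2) _ hz
    · intro e _
      obtain ⟨j, hj⟩ := (IsPGroup.iff_orderOf.mp hS) ⟨(e : Ω), hXRS e.2⟩
      refine ⟨j, ?_⟩
      rw [← hj, ← Subgroup.orderOf_coe, ← Subgroup.orderOf_coe]
    · intro x hx
      rw [Subgroup.mem_subgroupOf] at hx ⊢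
      refine Subgroup.mem_inf.mpr ⟨?_, hRX x hx⟩
      exact R.mul_mem (R.inv_mem hx)
        (Fusion.aut_mem_of_stronglyClosed F hXRS hRsc δ hδmem x hx)
    · intro x hx
      rw [Subgroup.mem_subgroupOf] at hx ⊢
      obtain ⟨h1, h2⟩ := hXK (Subgroup.mem_inf.mp hx).2
      exact h2
    · intro z hz
      rw [Subgroup.mem_subgroupOf] at hz ⊢
      exact Fusion.aut_mem_of_stronglyClosed F hXRS hTsc δ hδmem z hz
  -- restrict to `T R`
  have hle' : T ⊔ R ≤ T ⊔ centralizerIn S T ⊔ R := sup_le_sup_right le_sup_left R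
  have hδF := (Fusion.mem_autGroup_iff F hXRS δ).mp hδmem
  refine ⟨_, Fusion.restrict_mem F hδF hle', ?_, ?_⟩
  · intro t
    show ((δ (Subgroup.inclusion hle' (Subgroup.inclusion le_sup_left t)) :
      ↥(T ⊔ centralizerIn S T ⊔ R)) : Ω) = ((α t : T) : Ω)
    have h1 : Subgroup.inclusion hle' (Subgroup.inclusion le_sup_left t) =
        Subgroup.inclusion hTXR t := rfl
    rw [h1, hδT]
    rfl
  · intro x hx
    exact hchain (Subgroup.inclusion hle' x) hx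

end Cfsg.Agent.COP
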