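import Mathlib
import Cfsg.Prelude.Def_FusionComponents
import Cfsg.Agent.Lead.FusionExtT
import Cfsg.Agent.Lead.FusionInvariant
import Cfsg.Agent.Lead.FusionNormalCrit
import Cfsg.Agent.Lead.FusionSat3
import Cfsg.Agent.Lead.FusionStab
import Cfsg.Agent.CSE.LocalA
import Cfsg.Agent.CSE.LocalB
import Cfsg.Agent.CSE.Largest
import Cfsg.Agent.COP.LemmaXBase

/-!
COP project (S5150; chain in `notes/S5150_helper4.md`), piece P2: Lemma X.

`D` is a normal subsystem of the saturated system `F`, over `T`, and `R` is a subgroup normal in `F`.  Then every map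
`φ : P → T` of `D` extends to a map of `F` on `P ⊔ R` which moves every element of `R` inside its coset of `T`
(`cop_lemmaX`).  The proof is an Alperin induction in `D` for the predicate `CopExt F T R`; the case `P = T` is
`cop_lemmaX_base` (`COP/LemmaXBase.lean`), the case of a `D`-essential subgroup `P` uses the Frattini argument in
`Aut_D(P)` and the receptivity of `P` in `D` to pass to `N_T(P)`.
-/

set_option autoImplicit false
set_option linter.unusedSectionVars false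
set_option linter.unusedVariables false
set_option linter.style.haveILetI false

namespace Cfsg.Agent.COP

open Cfsg Cfsg.FusionSystem Cfsg.Agent.Lead Cfsg.Agent.Lead.StrongInv Cfsg.Agent.CSE

variable {Ω : Type*} [Group Ω] {S : Subgroup Ω}

/-- `φ` extends to a map of `F` on `P ⊔ R` which moves every element of `R` inside its coset of `T`. -/
def CopExt (F : FusionSystem S) (T R P : Subgroup Ω) (φ : P →* Ω) : Prop :=
  ∃ φh ∈ F.Hom (P ⊔ R), (∀ x : P, φh (Subgroup.inclusion le_sup_left x) = φ x) ∧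
    ∀ x : ↥(P ⊔ R), (x : Ω) ∈ R → (x : Ω)⁻¹ * φh x ∈ T

theorem cop_lemX_conj (F : FusionSystem S) {T R : Subgroup Ω} (hRS : R ≤ S)
    (hTn : S ≤ Subgroup.normalizer (T : Set Ω)) (P : Subgroup Ω) (g : Ω) (hP : P ≤ S) (hgS : g ∈ S)
    (hg : g ∈ T) : CopExt F T R P (conjHom P g) := by
  refine ⟨conjHom (P ⊔ R) g, F.conj_mem (sup_le hP hRS) hgS, fun x => rfl, fun x hx => ?_⟩
  show (x : Ω)⁻¹ * (g * (x : Ω) * g⁻¹) ∈ T
  have hxS : (x : Ω) ∈ S := hRS hx
  have h1 : (x : Ω)⁻¹ * g * ((x : Ω)⁻¹)⁻¹ ∈ T :=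
    (Subgroup.mem_normalizer_iff.mp (hTn (S.inv_mem hxS)) g).mp hg
  have e : (x : Ω)⁻¹ * (g * (x : Ω) * g⁻¹) = ((x : Ω)⁻¹ * g * ((x : Ω)⁻¹)⁻¹) * g⁻¹ := by group
  rw [e]
  exact T.mul_mem h1 (T.inv_mem hg)

theorem cop_lemX_comp (F : FusionSystem S) {T R : Subgroup Ω} (hRsc : F.StronglyClosed R)
    (P Q : Subgroup Ω) (φ : P →* Ω) (ψ : Q →* Ω) (h : ∀ x : P, φ x ∈ Q)
    (hφ : CopExt F T R P φ) (hψ : CopExt F T R Q ψ) :
    CopExt F T R P (ψ.comp (φ.codRestrict Q h)) := by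
  obtain ⟨φh, hφh, hφP, hφR⟩ := hφ
  obtain ⟨ψh, hψh, hψQ, hψR⟩ := hψ
  have hφhR : ∀ x : ↥(P ⊔ R), (x : Ω) ∈ R → φh x ∈ R := fun x hx =>
    Fusion.map_mem_of_stronglyClosed F hRsc hφh x hx
  have hval : ∀ y : ↥(P ⊔ R), φh y ∈ Q ⊔ R := by
    apply Fusion.sup_map_mem
    · intro x
      rw [hφP x]
      exact (le_sup_left : Q ≤ Q ⊔ R) (h x)
    · intro c
      exact (le_sup_right : R ≤ Q ⊔ R) (hφhR _ c.2)
  refine ⟨_, F.comp_mem hφh hψh hval, fun x => ?_, fun x hx => ?_⟩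
  · have h3 : (φh.codRestrict (Q ⊔ R) hval) (Subgroup.inclusion le_sup_left x) =
        Subgroup.inclusion le_sup_left (⟨φ x, h x⟩ : Q) := by
      apply Subtype.ext
      exact hφP x
    show ψh ((φh.codRestrict (Q ⊔ R) hval) (Subgroup.inclusion le_sup_left x)) = ψ ⟨φ x, h x⟩
    rw [h3, hψQ]
  · show (x : Ω)⁻¹ * ψh ((φh.codRestrict (Q ⊔ R) hval) x) ∈ T
    have h1 := hφR x hx
    have h2 := hψR ((φh.codRestrict (Q ⊔ R) hval) x) (hφhR x hx)
    have h2' : (φh x)⁻¹ * ψh ((φh.codRestrict (Q ⊔ R) hval) x) ∈ T := h2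
    have e : (x : Ω)⁻¹ * ψh ((φh.codRestrict (Q ⊔ R) hval) x) =
        ((x : Ω)⁻¹ * φh x) * ((φh x)⁻¹ * ψh ((φh.codRestrict (Q ⊔ R) hval) x)) := by group
    rw [e]
    exact T.mul_mem h1 h2'

theorem cop_lemX_inv [Finite S] (F : FusionSystem S) {T R : Subgroup Ω} (hRsc : F.StronglyClosed R)
    (P : Subgroup Ω) (φ : P →* Ω) (ψ : φ.range →* Ω) (hφ : CopExt F T R P φ)
    (hinv : ∀ x : P, ψ ⟨φ x, ⟨x, rfl⟩⟩ = (x : Ω)) : CopExt F T R φ.range ψ := by
  obtain ⟨φh, hφh, hφP, hφR⟩ := hφ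
  have hRle : R ≤ P ⊔ R := le_sup_right
  have hpre : ∀ r ∈ R, ∃ (r' : Ω) (hr' : r' ∈ R), φh ⟨r', hRle hr'⟩ = r := fun r hr =>
    Fusion.exists_preimage_of_stronglyClosed F hRsc hRle hφh r hr
  have hrange : φh.range = φ.range ⊔ R := by
    apply le_antisymm
    · rintro _ ⟨y, rfl⟩
      revert y
      apply Fusion.sup_map_mem
      · intro x
        rw [hφP x]
        exact (le_sup_left : φ.range ≤ _) ⟨x, rfl⟩
      · intro c
        exact (le_sup_right : R ≤ φ.range ⊔ R)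
          (Fusion.map_mem_of_stronglyClosed F hRsc hφh _ c.2)
    · apply sup_le
      · rintro _ ⟨x, rfl⟩
        exact ⟨_, hφP x⟩
      · intro c hc
        obtain ⟨r', hr', h⟩ := hpre c hc
        exact ⟨_, h⟩
  obtain ⟨θ, hθ, hθinv⟩ := F.inv_mem hφh
  obtain ⟨θ', hθ', hθθ'⟩ := Fusion.exists_hom_of_eq F hrange hθ
  refine ⟨θ', hθ', ?_, ?_⟩
  · rintro ⟨_, x, rfl⟩
    rw [hinv x]
    have hmem : φ x ∈ φh.range := ⟨_, hφP x⟩
    have h2 : θ' (Subgroup.inclusion le_sup_left (⟨φ x, ⟨x, rfl⟩⟩ : φ.range)) = θ ⟨φ x, hmem⟩ :=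
      hθθ' (φ x) hmem _
    rw [h2]
    have h3 : (⟨φ x, hmem⟩ : φh.range) =
        ⟨φh (Subgroup.inclusion le_sup_left x), ⟨_, rfl⟩⟩ := Subtype.ext (hφP x).symm
    rw [h3, hθinv]
    rfl
  · intro x hx
    obtain ⟨r', hr', h⟩ := hpre x hx
    have hmem : (x : Ω) ∈ φh.range := ⟨_, h⟩
    have h2 : θ' x = θ ⟨(x : Ω), hmem⟩ := hθθ' (x : Ω) hmem x.2
    have h3 : (⟨(x : Ω), hmem⟩ : φh.range) = ⟨φh ⟨r', hRle hr'⟩, ⟨_, rfl⟩⟩ := Subtype.ext h.symm
    rw [h2, h3, hθinv]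
    have h4 := hφR ⟨r', hRle hr'⟩ hr'
    rw [h] at h4
    have e : (x : Ω)⁻¹ * r' = (r'⁻¹ * (x : Ω))⁻¹ := by group
    show (x : Ω)⁻¹ * r' ∈ T
    rw [e]
    exact T.inv_mem h4

/-! ### The group `copK` of the automorphisms of `P` with a good extension -/

/-- The automorphisms of `Q` preserving `R ⊓ Q` in both directions. -/
def copStab (R Q : Subgroup Ω) : Subgroup (MulAut Q) where
  carrier := {β | ∀ y : Q, (y : Ω) ∈ R ↔ ((β y : Q) : Ω) ∈ R}
  one_mem' := fun _ => Iff.rfl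
  mul_mem' := by
    intro a b ha hb y
    rw [MulAut.mul_apply]
    exact (hb y).trans (ha (b y))
  inv_mem' := by
    intro a ha y
    have := ha (a⁻¹ y)
    rw [MulAut.apply_inv_self] at this
    exact this.symm

/-- The automorphisms of `P` that extend to automorphisms of `P ⊔ R` in `F` which preserve `R` and move every element
of `R` inside its coset of `T`. -/
def copK (F : FusionSystem S) (T R P : Subgroup Ω) : Subgroup (MulAut P) where
  carrier := {α | ∃ β ∈ F.autGroup (P ⊔ R), β ∈ copStab R (P ⊔ R) ∧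
    (∀ x : P, β (Subgroup.inclusion le_sup_left x) = Subgroup.inclusion le_sup_left (α x)) ∧
    ∀ y : ↥(P ⊔ R), (y : Ω) ∈ R → (y : Ω)⁻¹ * ((β y : ↥(P ⊔ R)) : Ω) ∈ T}
  one_mem' := ⟨1, (F.autGroup _).one_mem, (copStab R _).one_mem, fun _ => rfl, fun y _ => by
    show (y : Ω)⁻¹ * (y : Ω) ∈ T
    rw [inv_mul_cancel]
    exact T.one_mem⟩
  mul_mem' := by
    rintro a b ⟨β₁, h₁, h₁s, h₁P, h₁R⟩ ⟨β₂, h₂, h₂s, h₂P, h₂R⟩
    refine ⟨β₁ * β₂, (F.autGroup _).mul_mem h₁ h₂, (copStab R _).mul_mem h₁s h₂s, fun x => ?_,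
      fun y hy => ?_⟩
    · rw [MulAut.mul_apply, h₂P, h₁P]
      rfl
    · rw [MulAut.mul_apply]
      have hy2 : ((β₂ y : ↥(P ⊔ R)) : Ω) ∈ R := (h₂s y).mp hy
      have e : (y : Ω)⁻¹ * ((β₁ (β₂ y) : ↥(P ⊔ R)) : Ω) =
          ((y : Ω)⁻¹ * ((β₂ y : ↥(P ⊔ R)) : Ω)) *
            (((β₂ y : ↥(P ⊔ R)) : Ω)⁻¹ * ((β₁ (β₂ y) : ↥(P ⊔ R)) : Ω)) := by group
      rw [e]
      exact T.mul_mem (h₂R y hy) (h₁R _ hy2)
  inv_mem' := by
    rintro a ⟨β, hβ, hs, hP, hR⟩
    refine ⟨β⁻¹, (F.autGroup _).inv_mem hβ, (copStab R _).inv_mem hs, fun x => ?_, fun y hy => ?_⟩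
    · rw [MulAut.inv_apply, MulEquiv.symm_apply_eq, hP]
      congr 1
      exact (MulEquiv.apply_symm_apply a x).symm
    · have hs' := (copStab R _).inv_mem hs
      have hz : ((β⁻¹ y : ↥(P ⊔ R)) : Ω) ∈ R := (hs' y).mp hy
      have h1 := hR (β⁻¹ y) hz
      rw [MulAut.apply_inv_self] at h1
      have e : (y : Ω)⁻¹ * ((β⁻¹ y : ↥(P ⊔ R)) : Ω) =
          (((β⁻¹ y : ↥(P ⊔ R)) : Ω)⁻¹ * (y : Ω))⁻¹ := by group
      rw [e]
      exact T.inv_mem h1

theorem cop_lemX_ext_of_mem (F : FusionSystem S) {T R P : Subgroup Ω} (hPRS : P ⊔ R ≤ S)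
    (α : MulAut P) (hα : α ∈ copK F T R P) : CopExt F T R P (P.subtype.comp α.toMonoidHom) := by
  obtain ⟨β, hβ, hs, hP, hR⟩ := hα
  refine ⟨(P ⊔ R).subtype.comp β.toMonoidHom, (Fusion.mem_autGroup_iff F hPRS β).mp hβ,
    fun x => ?_, fun y hy => hR y hy⟩
  show ((β (Subgroup.inclusion le_sup_left x) : ↥(P ⊔ R)) : Ω) = ((α x : P) : Ω)
  rw [hP]
  rfl

theorem cop_lemX_mem_of_ext [Finite S] (F : FusionSystem S) {T R P : Subgroup Ω}
    (hRsc : F.StronglyClosed R) (α : MulAut P)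
    (hα : CopExt F T R P (P.subtype.comp α.toMonoidHom)) : α ∈ copK F T R P := by
  obtain ⟨φh, hφh, hφP, hφR⟩ := hα
  have hPRS : P ⊔ R ≤ S := Fusion.src_le F hφh
  have hval : ∀ y : ↥(P ⊔ R), φh y ∈ P ⊔ R := by
    apply Fusion.sup_map_mem
    · intro x
      rw [hφP x]
      exact (le_sup_left : P ≤ P ⊔ R) (α x).2
    · intro c
      exact (le_sup_right : R ≤ P ⊔ R) (Fusion.map_mem_of_stronglyClosed F hRsc hφh _ c.2)
  obtain ⟨β, hβ, hβφ⟩ := cse_aut_of_hom F φh hφh hval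
  refine ⟨β, hβ, ?_, fun x => ?_, fun y hy => ?_⟩
  · intro y
    constructor
    · intro hy
      rw [hβφ]
      exact Fusion.map_mem_of_stronglyClosed F hRsc hφh y hy
    · intro hy
      have h1 := Fusion.aut_mem_of_stronglyClosed F hPRS hRsc β⁻¹ ((F.autGroup _).inv_mem hβ)
        (β y) hy
      rwa [MulAut.inv_apply_self] at h1
  · apply Subtype.ext
    rw [hβφ, hφP]
    rfl
  · rw [hβφ]
    exact hφR y hy

/-- `copK` is normalized by `Aut_F(P)`. -/
theorem cop_lemX_conj_mem [Finite S] (F : FusionSystem S) {T R P : Subgroup Ω}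
    (hTsc : F.StronglyClosed T) (hR : F.IsNormal R) (hPS : P ≤ S) (g : MulAut P)
    (hg : g ∈ F.autGroup P) (α : MulAut P) (hα : α ∈ copK F T R P) :
    g * α * g⁻¹ ∈ copK F T R P := by
  obtain ⟨β, hβ, hs, hP, hRT⟩ := hα
  have hPRS : P ⊔ R ≤ S := sup_le hPS hR.1
  obtain ⟨ψ, hψ, hψP, hψR⟩ := hR.2 P _ ((Fusion.mem_autGroup_iff F hPS g).mp hg)
  have hψRmem : ∀ y : ↥(P ⊔ R), (y : Ω) ∈ R → ψ y ∈ R := by
    intro y hy
    exact hψR.le ⟨y, Subgroup.mem_subgroupOf.mpr hy, rfl⟩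
  have hval : ∀ y : ↥(P ⊔ R), ψ y ∈ P ⊔ R := by
    apply Fusion.sup_map_mem
    · intro x
      rw [hψP x]
      exact (le_sup_left : P ≤ P ⊔ R) (g x).2
    · intro c
      exact (le_sup_right : R ≤ P ⊔ R) (hψRmem _ c.2)
  obtain ⟨γ, hγ, hγψ⟩ := cse_aut_of_hom F ψ hψ hval
  have hγs : γ ∈ copStab R (P ⊔ R) := by
    intro y
    constructor
    · intro hy
      rw [hγψ]
      exact hψRmem y hy
    · intro hy
      rw [hγψ] at hy
      obtain ⟨r, hr, hry⟩ := hψR.ge hy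
      have hry' : r = y := F.injective_of_mem hψ hry
      rw [← hry']
      exact Subgroup.mem_subgroupOf.mp hr
  have hγP : ∀ x : P, γ (Subgroup.inclusion le_sup_left x) =
      Subgroup.inclusion le_sup_left (g x) := by
    intro x
    apply Subtype.ext
    rw [hγψ, hψP]
    rfl
  have hγinvP : ∀ x : P, γ⁻¹ (Subgroup.inclusion le_sup_left x) =
      Subgroup.inclusion le_sup_left (g⁻¹ x) := by
    intro x
    rw [MulAut.inv_apply, MulEquiv.symm_apply_eq, hγP]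
    congr 1
    exact (MulEquiv.apply_symm_apply g x).symm
  have hγhom := (Fusion.mem_autGroup_iff F hPRS γ).mp hγ
  have hkey : ∀ z : ↥(P ⊔ R), (z : Ω) ∈ R →
      ((γ z : ↥(P ⊔ R)) : Ω)⁻¹ * ((γ (β z) : ↥(P ⊔ R)) : Ω) ∈ T := by
    intro z hzR
    have h2 : (((z⁻¹ * β z : ↥(P ⊔ R))) : Ω) ∈ T := hRT z hzR
    have h3 := Fusion.map_mem_of_stronglyClosed F hTsc hγhom (z⁻¹ * β z) h2
    have e : ((P ⊔ R).subtype.comp γ.toMonoidHom) (z⁻¹ * β z) =
        ((γ z : ↥(P ⊔ R)) : Ω)⁻¹ * ((γ (β z) : ↥(P ⊔ R)) : Ω) := by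
      show ((γ (z⁻¹ * β z) : ↥(P ⊔ R)) : Ω) = _
      rw [map_mul, map_inv]
      rfl
    rw [e] at h3
    exact h3
  refine ⟨γ * β * γ⁻¹, (F.autGroup _).mul_mem ((F.autGroup _).mul_mem hγ hβ)
    ((F.autGroup _).inv_mem hγ), (copStab R _).mul_mem ((copStab R _).mul_mem hγs hs)
    ((copStab R _).inv_mem hγs), fun x => ?_, fun y hy => ?_⟩
  · rw [MulAut.mul_apply, MulAut.mul_apply, hγinvP, hP, hγP]
    rfl
  · rw [MulAut.mul_apply, MulAut.mul_apply]
    have hzR : ((γ⁻¹ y : ↥(P ⊔ R)) : Ω) ∈ R := ((copStab R _).inv_mem hγs y).mp hy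
    have h1 := hkey (γ⁻¹ y) hzR
    rw [MulAut.apply_inv_self] at h1
    exact h1

theorem cop_lemX_le_normalizer (F : FusionSystem S) {T : Subgroup Ω} (hTsc : F.StronglyClosed T) :
    S ≤ Subgroup.normalizer (T : Set Ω) := by
  have hc : ∀ s ∈ S, ∀ x ∈ T, s * x * s⁻¹ ∈ T := fun s hs x hx =>
    hTsc.2 T le_rfl _ (F.conj_mem hTsc.1 hs) ⟨x, hx⟩
  intro s hs
  rw [Subgroup.mem_normalizer_iff]
  intro x
  refine ⟨hc s hs x, fun hx => ?_⟩
  have h1 := hc s⁻¹ (S.inv_mem hs) _ hx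
  have e : s⁻¹ * (s * x * s⁻¹) * s⁻¹⁻¹ = x := by group
  rw [e] at h1
  exact h1

theorem cop_lemX_autInduced_le [Finite S] (F : FusionSystem S) {T R P : Subgroup Ω}
    (hTsc : F.StronglyClosed T) (hRsc : F.StronglyClosed R) (hPT : P ≤ T) :
    autInducedBy T P ≤ copK F T R P := by
  intro a ha
  rw [mem_autInducedBy_iff] at ha
  obtain ⟨g, hgT, hg⟩ := ha
  apply cop_lemX_mem_of_ext F hRsc
  have e : P.subtype.comp a.toMonoidHom = conjHom P g := by
    ext x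
    exact hg x
  rw [e]
  exact cop_lemX_conj F hRsc.1 (cop_lemX_le_normalizer F hTsc) P g (hPT.trans hTsc.1)
    (hTsc.1 hgT) hgT

/-! ### The case `P = T` -/

theorem cop_lemX_top [Finite S] (p : ℕ) [Fact p.Prime] (hS : IsPGroup p S)
    (F : FusionSystem S) (hF : F.IsSaturated p) {T : Subgroup Ω} (D : FusionSystem T)
    (hD : D.IsNormalIn F p) {R : Subgroup Ω} (hR : F.IsNormal R) :
    D.autGroup T ≤ copK F T R T := by
  have hDsat := hD.1.1
  have hTsc := hD.1.2.2.2.1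
  have hTS : T ≤ S := hTsc.1
  haveI : Finite T := Fusion.finite_of_le hTS
  have hRsc := Fusion.stronglyClosed_of_isNormal F hR
  apply cse_autGroup_le_of_gen p D (Fusion.top_fullyAutomized p D hDsat)
  · exact cop_lemX_autInduced_le F hTsc hRsc le_rfl
  · intro a ha hcop
    apply cop_lemX_mem_of_ext F hRsc
    exact cop_lemmaX_base p hS F hF D hD hR a ha hcop

/-! ### The case of a fully normalized `P < T` -/

/-- An automorphism of `U` in `D` normalizing `Aut_T(U)` extends to `N_T(U)` (`U` fully normalized in the saturated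
system `D`). -/
theorem cop_lemX_extend_to_V {T : Subgroup Ω} [Finite T] (p : ℕ) [Fact p.Prime]
    (hTp : IsPGroup p T) (D : FusionSystem T) (hDsat : D.IsSaturated p) {U : Subgroup Ω}
    (hUT : U ≤ T) (hfn : D.IsFullyNormalized U) (a : MulAut U) (ha : a ∈ D.autGroup U)
    (hnorm : ∀ t ∈ autInducedBy T U, a * t * a⁻¹ ∈ autInducedBy T U) :
    ∃ abar ∈ D.autGroup (normalizerIn T U), ∀ u : U,
      ((abar ⟨u, cse_locB_le_normalizerIn hUT u.2⟩ : normalizerIn T U) : Ω) = ((a u : U) : Ω) := by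
  haveI : Finite U := Fusion.finite_of_le hUT
  have hrec : D.IsReceptive U := ((Fusion.isSaturated_iff' p hTp D).mp hDsat).2 U hfn
  have hahom := (Fusion.mem_autGroup_iff D hUT a).mp ha
  have hVT : normalizerIn T U ≤ T := inf_le_left
  haveI : Finite (normalizerIn T U) := Fusion.finite_of_le hVT
  have hle : normalizerIn T U ≤ extender T U (U.subtype.comp a.toMonoidHom) := by
    intro g hg
    have hgT : g ∈ T := hg.1
    have hgN : g ∈ Subgroup.normalizer (U : Set Ω) := hg.2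
    apply Subgroup.subset_closure
    refine ⟨hgT, hgN, ?_⟩
    have hcU : conjAutHom U ⟨g, hgN⟩ ∈ autInducedBy T U :=
      Fusion.conjAutHom_mem_autInducedBy U ⟨g, hgN⟩ hgT
    have h1 : a * conjAutHom U ⟨g, hgN⟩ * a⁻¹ ∈ autInducedBy T U := hnorm _ hcU
    rw [mem_autInducedBy_iff] at h1
    obtain ⟨k, hkT, hk⟩ := h1
    refine ⟨k, hkT, fun x hx => ?_⟩
    have h2 := hk (a x)
    show ((a ⟨g * x * g⁻¹, hx⟩ : U) : Ω) = k * ((a x : U) : Ω) * k⁻¹
    rw [← h2]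
    simp only [MulAut.mul_apply, MulAut.inv_apply_self]
    rfl
  obtain ⟨ψ', hψ', hext⟩ := hrec.2 U _ hahom (range_aut U a)
  have hα := Fusion.restrict_mem D hψ' hle
  obtain ⟨f, hf⟩ : ∃ f : ↥(normalizerIn T U) →* Ω, f = ψ'.comp (Subgroup.inclusion hle) :=
    ⟨_, rfl⟩
  rw [← hf] at hα
  have hfU : ∀ u : U, f ⟨u, cse_locB_le_normalizerIn hUT u.2⟩ = ((a u : U) : Ω) := by
    intro u
    rw [hf]
    exact hext u.1 u.2 (hle (cse_locB_le_normalizerIn hUT u.2))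
  have hfV : ∀ x : ↥(normalizerIn T U), f x ∈ normalizerIn T U := by
    intro x
    refine ⟨(D.le_of_mem hα).2 x, ?_⟩
    apply mem_normalizer_of_conj_mem_of_finite U
    intro y hy
    obtain ⟨u, hu⟩ : ∃ u : U, ((a u : U) : Ω) = y := ⟨a.symm ⟨y, hy⟩, by simp⟩
    have hxu : (x : Ω) * u * (x : Ω)⁻¹ ∈ U :=
      (Subgroup.mem_normalizer_iff.mp x.2.2 u).mp u.2
    have h3 : f x * y * (f x)⁻¹ =
        f (x * ⟨u, cse_locB_le_normalizerIn hUT u.2⟩ * x⁻¹) := by
      rw [map_mul, map_mul, map_inv, hfU u, hu]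
    have h4 : (x * ⟨u, cse_locB_le_normalizerIn hUT u.2⟩ * x⁻¹ : ↥(normalizerIn T U)) =
        ⟨((⟨(x : Ω) * u * (x : Ω)⁻¹, hxu⟩ : U) : Ω),
          cse_locB_le_normalizerIn hUT hxu⟩ := Subtype.ext rfl
    rw [h3, h4, hfU ⟨(x : Ω) * u * (x : Ω)⁻¹, hxu⟩]
    exact (a _).2
  obtain ⟨κ, hκ⟩ := exists_mulAut_of_injective f (D.injective_of_mem hα) hfV
  refine ⟨κ, ?_, fun u => ?_⟩
  · rw [Fusion.mem_autGroup_iff D hVT]
    have e : (normalizerIn T U).subtype.comp κ.toMonoidHom = f := by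
      ext x
      exact (hκ x).symm
    rw [e]; exact hα
  · rw [← hκ]; exact hfU u

/-- The step of the Alperin induction at a fully normalized `P < T`: Frattini argument in `Aut_D(P)`. -/
theorem cop_lemX_step [Finite S] (p : ℕ) [Fact p.Prime] (hS : IsPGroup p S)
    (F : FusionSystem S) {T : Subgroup Ω} (D : FusionSystem T) (hDsat : D.IsSaturated p)
    (hsub : D.IsSubsystemOf F) (hTsc : F.StronglyClosed T) {R : Subgroup Ω} (hR : F.IsNormal R)
    {P : Subgroup Ω} (hPT : P ≤ T) (hne : P ≠ T) (hfn : D.IsFullyNormalized P)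
    (ih : ∀ (Q : Subgroup Ω) (ψ : Q →* Ω), ψ ∈ D.Hom Q → Nat.card P < Nat.card Q →
      CopExt F T R Q ψ) :
    D.autGroup P ≤ copK F T R P := by
  have hTS : T ≤ S := hTsc.1
  haveI : Finite T := Fusion.finite_of_le hTS
  have hTp : IsPGroup p T := hS.to_le hTS
  have hPS : P ≤ S := hPT.trans hTS
  haveI : Finite P := Fusion.finite_of_le hPS
  have hRsc := Fusion.stronglyClosed_of_isNormal F hR
  have hfa : D.IsFullyAutomized p P :=
    (Fusion.fullyCentralized_fullyAutomized_of_fullyNormalized p hTp D hDsat hfn).2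
  obtain ⟨-, Rs, hRs⟩ := hfa
  have hDF : D.autGroup P ≤ F.autGroup P := by
    intro a ha
    rw [Fusion.mem_autGroup_iff F hPS]
    exact hsub P ((Fusion.mem_autGroup_iff D hPT a).mp ha)
  have hind : autInducedBy T P ≤ copK F T R P := cop_lemX_autInduced_le F hTsc hRsc hPT
  have hJn : ((copK F T R P).subgroupOf (D.autGroup P)).Normal := by
    refine ⟨fun b hb g => ?_⟩
    rw [Subgroup.mem_subgroupOf] at hb ⊢
    exact cop_lemX_conj_mem F hTsc hR hPS g.1 (hDF g.2) b.1 hb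
  haveI : Finite (MulAut P) := inferInstance
  have hRsJ : (Rs : Subgroup (D.autGroup P)) ≤ (copK F T R P).subgroupOf (D.autGroup P) := by
    rw [hRs]
    intro x hx
    rw [Subgroup.mem_subgroupOf] at hx ⊢
    exact hind hx
  have hfrat : Subgroup.normalizer ((Rs : Subgroup (D.autGroup P)) : Set _) ⊔
      (copK F T R P).subgroupOf (D.autGroup P) = ⊤ := Sylow.normalizer_sup_eq_top' Rs hRsJ
  have hNJ : Subgroup.normalizer ((Rs : Subgroup (D.autGroup P)) : Set _) ≤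
      (copK F T R P).subgroupOf (D.autGroup P) := by
    intro a ha
    rw [Subgroup.mem_subgroupOf]
    have hnorm : ∀ t ∈ autInducedBy T P, a.1 * t * a.1⁻¹ ∈ autInducedBy T P := by
      intro t ht
      have htD : t ∈ D.autGroup P := Fusion.autInducedBy_le_autGroup D hPT ht
      have h1 : (⟨t, htD⟩ : D.autGroup P) ∈ (Rs : Subgroup (D.autGroup P)) := by
        rw [hRs, Subgroup.mem_subgroupOf]
        exact ht
      have h2 := (Subgroup.mem_normalizer_iff.mp ha _).mp h1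
      rw [hRs, Subgroup.mem_subgroupOf] at h2
      exact h2
    obtain ⟨abar, habar, hab⟩ := cop_lemX_extend_to_V p hTp D hDsat hPT hfn a.1 a.2 hnorm
    have hVT : normalizerIn T P ≤ T := inf_le_left
    have hlt := cse_locB_card_lt p hS hTS hPT hne
    obtain ⟨φh, hφh, hφV, hφR⟩ :=
      ih (normalizerIn T P) _ ((Fusion.mem_autGroup_iff D hVT abar).mp habar) hlt
    apply cop_lemX_mem_of_ext F hRsc
    have hle : P ⊔ R ≤ normalizerIn T P ⊔ R :=
      sup_le_sup_right (cse_locB_le_normalizerIn hPT) R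
    refine ⟨φh.comp (Subgroup.inclusion hle), Fusion.restrict_mem F hφh hle, fun x => ?_,
      fun y hy => ?_⟩
    · have h3 := hφV ⟨x, cse_locB_le_normalizerIn hPT x.2⟩
      show φh (Subgroup.inclusion hle (Subgroup.inclusion le_sup_left x)) = ((a.1 x : P) : Ω)
      rw [← hab x]
      exact h3
    · exact hφR (Subgroup.inclusion hle y) hy
  have htop : (copK F T R P).subgroupOf (D.autGroup P) = ⊤ := by
    rw [eq_top_iff, ← hfrat]
    exact sup_le hNJ le_rfl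
  intro a ha
  have h1 : (⟨a, ha⟩ : D.autGroup P) ∈ (copK F T R P).subgroupOf (D.autGroup P) := by
    rw [htop]
    trivial
  exact Subgroup.mem_subgroupOf.mp h1

/-! ### Lemma X -/

/-- LEMMA X. `D` normal in `F` over `T`, `R` a normal subgroup of `F`, `φ ∈ Hom_D(P)`: `φ` extends to
`φh ∈ Hom_F(P R)` with `x⁻¹ φh(x) ∈ T` for all `x ∈ R`. -/
theorem cop_lemmaX [Finite S] (p : ℕ) [Fact p.Prime] (hS : IsPGroup p S)
    (F : FusionSystem S) (hF : F.IsSaturated p) {T : Subgroup Ω} (D : FusionSystem T)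
    (hD : D.IsNormalIn F p) {R : Subgroup Ω} (hR : F.IsNormal R) {P : Subgroup Ω}
    (φ : P →* Ω) (hφ : φ ∈ D.Hom P) :
    ∃ φh ∈ F.Hom (P ⊔ R), (∀ x : P, φh (Subgroup.inclusion le_sup_left x) = φ x) ∧
      ∀ x : ↥(P ⊔ R), (x : Ω) ∈ R → (x : Ω)⁻¹ * φh x ∈ T := by
  have hDsat := hD.1.1
  have hsub := hD.1.2.2.1
  have hTsc := hD.1.2.2.2.1
  have hTS : T ≤ S := hTsc.1
  haveI : Finite T := Fusion.finite_of_le hTS
  have hTp : IsPGroup p T := hS.to_le hTS
  have hRsc := Fusion.stronglyClosed_of_isNormal F hR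
  have hRS : R ≤ S := hR.1
  have hTn := cop_lemX_le_normalizer F hTsc
  have hmain : CopExt F T R P φ := by
    refine Fusion.pred_of_alperin_ind p hTp D hDsat (CopExt F T R) ?_ ?_ ?_ ?_ hφ
    · intro P g hP hg
      exact cop_lemX_conj F hRS hTn P g (hP.trans hTS) (hTS hg) hg
    · intro P Q φ ψ h _ _ h1 h2
      exact cop_lemX_comp F hRsc P Q φ ψ h h1 h2
    · intro P φ ψ _ h1 _ hinv
      exact cop_lemX_inv F hRsc P φ ψ h1 hinv
    · intro P hP ih α hα
      have hPT : P ≤ T := by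
        rcases hP with h | h
        · exact h.le
        · exact h.1.1
      have hPRS : P ⊔ R ≤ S := sup_le (hPT.trans hTS) hRS
      apply cop_lemX_ext_of_mem F hPRS
      by_cases hne : P = T
      · subst hne
        exact cop_lemX_top p hS F hF D hD hR hα
      · rcases hP with h | h
        · exact absurd h hne
        · exact cop_lemX_step p hS F D hDsat hsub hTsc hR hPT hne h.2.1 ih hα
  exact hmain

end Cfsg.Agent.COP
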