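import Mathlib
import Cfsg.Prelude.Def_FusionComponents
import Cfsg.Agent.Lead.FusionQuasi
import Cfsg.Agent.Lead.FusionInnerSat
import Cfsg.Agent.Lead.FusionSat
import Cfsg.Agent.Helper2.ConstrQuot
import Cfsg.Agent.Helper6.PPowNormD

set_option autoImplicit false

/-!
# S5150, piece (L3): a normal subgroup of a quasisimple system is central
-/

namespace Cfsg.Agent.COP

open Cfsg Cfsg.FusionSystem Cfsg.Agent.Lead

variable {Ω : Type*} [Group Ω]

/-- The inner system of a subgroup normal in a saturated system is a normal subsystem. -/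
theorem cop_inner_isNormalIn {S : Subgroup Ω} [Finite S] (p : ℕ) [Fact p.Prime] (hS : IsPGroup p S)
    (F : FusionSystem S) (hF : F.IsSaturated p) {T : Subgroup Ω} (hT : F.IsNormal T) :
    (innerFusionSystem T).IsNormalIn F p := by
  refine ⟨(Fusion.isNormal_iff_inner_weaklyNormal p hS F hF T hT.1).mp hT, fun α hα => ?_⟩
  obtain ⟨g, hg, hgv⟩ := (mem_autInducedBy_iff T T α).mp (Fusion.inner_autGroup_le T T hα)
  exact Cfsg.Agent.Helper6.PPowNorm.extOK_of_inner F hT.1 α g hg hgv

/-- A system all of whose maps are conjugations by elements of the finite `p`-group `S` has trivial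
hyperfocal subgroup. -/
theorem cop_hyperfocal_eq_bot_of_inner {S : Subgroup Ω} (p : ℕ) [Fact p.Prime] (hS : IsPGroup p S)
    (F : FusionSystem S) (hinner : ∀ P : Subgroup Ω, F.Hom P = (innerFusionSystem S).Hom P) :
    F.hyperfocalSubgroup p = ⊥ := by
  unfold FusionSystem.hyperfocalSubgroup
  rw [Subgroup.closure_eq_bot_iff]
  rintro y ⟨P, α, x, hPS, hα, rfl⟩
  have hle : F.autGroup P ≤ autInducedBy S P := by
    intro β hβ
    apply Fusion.inner_autGroup_le S P
    rw [Fusion.mem_autGroup_iff (innerFusionSystem S) hPS, ← hinner P]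
    exact (Fusion.mem_autGroup_iff F hPS β).mp hβ
  have hpg : IsPGroup p ↥(F.autGroup P) := (Fusion.isPGroup_autInducedBy p hS P).to_le hle
  have hres : Cfsg.pResidual p ↥(F.autGroup P) = ⊥ := by
    unfold Cfsg.pResidual
    rw [Subgroup.closure_eq_bot_iff]
    intro β hβ
    rw [Set.mem_singleton_iff]
    obtain ⟨k, hk⟩ := hpg β
    have h1 : orderOf β ∣ p ^ k := orderOf_dvd_of_pow_eq_one hk
    have h2 : (orderOf β).Coprime (p ^ k) := Nat.Coprime.pow_right k hβ
    have h3 : orderOf β = 1 := Nat.Coprime.eq_one_of_dvd h2 h1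
    exact orderOf_eq_one_iff.mp h3
  rw [hres, Subgroup.mem_bot] at hα
  rw [Set.mem_singleton_iff, hα]
  simp

/-- (L3) A subgroup normal in a quasisimple system lies in its centre. -/
theorem cop_normal_le_center_of_quasisimple {U : Subgroup Ω} [Finite U] (p : ℕ) [Fact p.Prime]
    (hU : IsPGroup p U) (C : FusionSystem U) (hC : C.Quasisimple p) (R' : Subgroup Ω)
    (hR' : C.IsNormal R') : R' ≤ C.center := by
  obtain ⟨hCs, hhyp, hsimple⟩ := hC
  have hZ := Fusion.center_stronglyClosed p hU C hCs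
  set N := (C.center).subgroupOf U with hN
  have hker : ∀ s : U, (QuotientGroup.mk' N) s = 1 ↔ (s : Ω) ∈ C.center := by
    intro s
    rw [QuotientGroup.mk'_apply, QuotientGroup.eq_one_iff, hN, Subgroup.mem_subgroupOf]
  have hr : (QuotientGroup.mk' N).range = ⊤ :=
    MonoidHom.range_eq_top.mpr (QuotientGroup.mk'_surjective N)
  have hE := Fusion.factorSystem_isFactorSystem C (QuotientGroup.mk' N) hZ hker hr
  set E := Fusion.factorSystem C (QuotientGroup.mk' N) hZ hker hr with hEdef
  have hEs := hsimple E hE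
  have hU' : IsPGroup p (⊤ : Subgroup (U ⧸ N)) := by
    have h1 : IsPGroup p (U ⧸ N) := hU.to_quotient N
    exact h1.to_subgroup _
  have hRbar : E.IsNormal (imageAlong (QuotientGroup.mk' N) R') :=
    Cfsg.Agent.Helper2.ConstrQuot.imageAlong_isNormal p hU C hCs hZ hR' (QuotientGroup.mk' N) E hE
  have hinner := cop_inner_isNormalIn p hU' E hEs.1 hRbar
  rcases hEs.2.2 _ _ hinner with h | ⟨h, hHom⟩
  · intro r hr'
    have hrU : r ∈ U := hR'.1 hr'
    have hmem : (QuotientGroup.mk' N) ⟨r, hrU⟩ ∈ imageAlong (QuotientGroup.mk' N) R' :=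
      ⟨⟨r, hrU⟩, by rw [SetLike.mem_coe, Subgroup.mem_subgroupOf]; exact hr', rfl⟩
    rw [h, Subgroup.mem_bot] at hmem
    exact (hker ⟨r, hrU⟩).mp hmem
  · exfalso
    have h3 : E.hyperfocalSubgroup p = ⊥ := by
      apply cop_hyperfocal_eq_bot_of_inner p hU' E
      intro P
      rw [← hHom P]
      ext φ
      constructor
      · rintro ⟨hP, g, hg, hφ⟩
        exact ⟨le_top, g, Subgroup.mem_top g, hφ⟩
      · rintro ⟨hP, g, -, hφ⟩
        exact ⟨by rw [h]; exact hP, g, by rw [h]; exact Subgroup.mem_top g, hφ⟩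
    have h4 := Fusion.hyperfocal_factor p hU C hCs C.center hZ (QuotientGroup.mk' N) E hE
    rw [h3, hhyp] at h4
    have h5 : (U.subgroupOf U).map (QuotientGroup.mk' N) = ⊤ := by
      rw [Subgroup.subgroupOf_self, ← MonoidHom.range_eq_map, hr]
    rw [h5] at h4
    exact hEs.2.1 h4.symm

end Cfsg.Agent.COP
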