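import Mathlib
import Cfsg.Prelude.Def_FusionComponents
import Cfsg.Agent.Lead.FusionNormal
import Cfsg.Agent.Lead.FusionNormalCrit
import Cfsg.Agent.Lead.FusionExtT
import Cfsg.Agent.Lead.FusionSubnormal
import Cfsg.Agent.COP.Basic
import Cfsg.Agent.COP.LemmaX
import Cfsg.Agent.COP.InterNormal
import Cfsg.Agent.COP.QsCentral

/-!
S5150 (COP), piece P5: the crux. For a component `C` of `F` (over `U`), a normal subgroup `R` of `F`, `P ≤ U` and a
`p'`-element `α` of `Aut_C(P)`, there is a `p'`-element of `Aut_F(P R)` extending `α` and fixing `R` elementwise.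
Induction on the derivation of `C.IsSubnormalIn F p`.
-/

set_option autoImplicit false

namespace Cfsg.Agent.COP

open Cfsg Cfsg.FusionSystem Cfsg.Agent.Lead

variable {Ω : Type*} [Group Ω] {S : Subgroup Ω}

/-- The conclusion of the crux. -/
def CopCruxOut (p : ℕ) (F : FusionSystem S) (R P : Subgroup Ω) (α : MulAut P) : Prop :=
  ∃ β ∈ F.autGroup (P ⊔ R), (orderOf β).Coprime p ∧
    (∀ x : P, ((β (Subgroup.inclusion le_sup_left x) : ↥(P ⊔ R)) : Ω) = ((α x : P) : Ω)) ∧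
    ∀ x : ↥(P ⊔ R), (x : Ω) ∈ R → ((β x : ↥(P ⊔ R)) : Ω) = (x : Ω)

/-- The common tail: a map of `F` on `P R` extending the `p'`-automorphism `α` of `P`, trivial on `R` modulo `T` and
trivial on `R ∩ T`, gives (power trick + coprime action) a `p'`-element of `Aut_F(P R)` extending `α` and fixing `R`. -/
theorem cop_crux_finish [Finite S] (p : ℕ) [Fact p.Prime] (hS : IsPGroup p S) (F : FusionSystem S)
    {R P T : Subgroup Ω} (hRsc : F.StronglyClosed R) (α : MulAut P) (hαp : (orderOf α).Coprime p)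
    (ψ : ↥(P ⊔ R) →* Ω) (hψ : ψ ∈ F.Hom (P ⊔ R))
    (hext : ∀ x : P, ψ (Subgroup.inclusion le_sup_left x) = ((α x : P) : Ω))
    (hT : ∀ x : ↥(P ⊔ R), (x : Ω) ∈ R → (x : Ω)⁻¹ * ψ x ∈ T)
    (h0 : ∀ x : ↥(P ⊔ R), (x : Ω) ∈ R ⊓ T → ψ x = (x : Ω)) : CopCruxOut p F R P α := by
  have hQS : P ⊔ R ≤ S := Fusion.src_le F hψ
  have : Finite ↥(P ⊔ R) := Fusion.finite_of_le hQS
  have hQp : IsPGroup p ↥(P ⊔ R) := hS.to_le hQS
  have hR : ∀ x : R, ψ (Subgroup.inclusion le_sup_right x) ∈ R := fun x =>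
    Fusion.map_mem_of_stronglyClosed F hRsc hψ _ x.2
  obtain ⟨β, hβ, hβψ⟩ := cop_aut_of_hom F α ψ hψ hext hR
  have hβR : ∀ x : ↥(P ⊔ R), (x : Ω) ∈ R → ((β x : ↥(P ⊔ R)) : Ω) ∈ R := by
    intro x hx
    rw [hβψ x]
    exact Fusion.map_mem_of_stronglyClosed F hRsc hψ _ hx
  have hβT : ∀ x : ↥(P ⊔ R), (x : Ω) ∈ R → (x : Ω)⁻¹ * ((β x : ↥(P ⊔ R)) : Ω) ∈ T := by
    intro x hx
    rw [hβψ x]
    exact hT x hx
  have hβ0 : ∀ x : ↥(P ⊔ R), (x : Ω) ∈ R ⊓ T → β x = x := by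
    intro x hx
    apply Subtype.ext
    rw [hβψ x]
    exact h0 x hx
  have hβext : ∀ x : P, ((β (Subgroup.inclusion le_sup_left x) : ↥(P ⊔ R)) : Ω) = ((α x : P) : Ω) := by
    intro x
    rw [hβψ, hext]
  -- the properties pass to powers
  have hpow : ∀ k : ℕ, (∀ x : ↥(P ⊔ R), (x : Ω) ∈ R → (((β ^ k) x : ↥(P ⊔ R)) : Ω) ∈ R) ∧
      (∀ x : ↥(P ⊔ R), (x : Ω) ∈ R → (x : Ω)⁻¹ * (((β ^ k) x : ↥(P ⊔ R)) : Ω) ∈ T) ∧
      (∀ x : ↥(P ⊔ R), (x : Ω) ∈ R ⊓ T → (β ^ k) x = x) := by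
    intro k
    induction k with
    | zero =>
      refine ⟨fun x hx => ?_, fun x _ => ?_, fun x _ => ?_⟩
      · simpa using hx
      · simp
      · simp
    | succ k ih =>
      obtain ⟨i1, i2, i3⟩ := ih
      refine ⟨fun x hx => ?_, fun x hx => ?_, fun x hx => ?_⟩
      · rw [pow_succ, MulAut.mul_apply]
        exact i1 _ (hβR x hx)
      · rw [pow_succ, MulAut.mul_apply]
        have e : (x : Ω)⁻¹ * (((β ^ k) (β x) : ↥(P ⊔ R)) : Ω) =
            ((x : Ω)⁻¹ * ((β x : ↥(P ⊔ R)) : Ω)) *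
              (((β x : ↥(P ⊔ R)) : Ω)⁻¹ * (((β ^ k) (β x) : ↥(P ⊔ R)) : Ω)) := by group
        rw [e]
        exact T.mul_mem (hβT x hx) (i2 _ (hβR x hx))
      · rw [pow_succ, MulAut.mul_apply, hβ0 x hx, i3 x hx]
  obtain ⟨k, hk, hkext⟩ := cop_exists_pprime_power (le_sup_left : P ≤ P ⊔ R) p α β hβext hαp
  obtain ⟨j1, j2, j3⟩ := hpow k
  refine ⟨β ^ k, Subgroup.pow_mem _ hβ k, hk, hkext, fun x hx => ?_⟩
  have hfix := cop_coprime_trivial p (β ^ k) hk (R.subgroupOf (P ⊔ R)) ((R ⊓ T).subgroupOf (P ⊔ R))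
    (fun z _ => (IsPGroup.iff_orderOf.mp hQp) z)
    (fun d hd => by
      rw [Subgroup.mem_subgroupOf] at hd ⊢
      refine Subgroup.mem_inf.mpr ⟨?_, ?_⟩
      · exact R.mul_mem (R.inv_mem hd) (j1 d hd)
      · exact j2 d hd)
    (fun z hz => j3 z (Subgroup.mem_subgroupOf.mp hz))
    x (Subgroup.mem_subgroupOf.mpr hx)
  rw [hfix]

/-- The crux, by induction on the derivation of subnormality. -/
theorem cop_crux_aux {U S : Subgroup Ω} {C : FusionSystem U} {F : FusionSystem S} {p : ℕ}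
    (hCF : C.IsSubnormalIn F p) :
    ∀ [Fact p.Prime] [Finite S], IsPGroup p S → F.IsSaturated p → C.Quasisimple p →
      ∀ {R : Subgroup Ω}, F.IsNormal R → ∀ {P : Subgroup Ω}, P ≤ U → ∀ α : MulAut P,
        α ∈ C.autGroup P → (orderOf α).Coprime p → CopCruxOut p F R P α := by
  induction hCF with
  | refl F p =>
    intro _ _ hS hF hq R hR P hPS α hα hαp
    have hRZ : R ≤ F.center := cop_normal_le_center_of_quasisimple p hS F hq R hR
    have hφ := (Fusion.mem_autGroup_iff F hPS α).mp hα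
    obtain ⟨ψ, hψ, hψP, hψZ⟩ := (Fusion.center_isCentral F).2 P _ hφ
    have hle : P ⊔ R ≤ P ⊔ F.center := sup_le_sup_left hRZ P
    have hψ' := Fusion.restrict_mem F hψ hle
    have hfix : ∀ x : ↥(P ⊔ R), (x : Ω) ∈ R → (ψ.comp (Subgroup.inclusion hle)) x = (x : Ω) := by
      intro x hx
      have e : Subgroup.inclusion hle x =
          Subgroup.inclusion (le_sup_right : F.center ≤ P ⊔ F.center) ⟨(x : Ω), hRZ hx⟩ :=
        Subtype.ext rfl
      show ψ (Subgroup.inclusion hle x) = (x : Ω)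
      rw [e, hψZ]
    refine cop_crux_finish p hS F (T := ⊥) (Fusion.stronglyClosed_of_isNormal F hR) α hαp _ hψ' ?_ ?_ ?_
    · intro x
      have e : Subgroup.inclusion hle (Subgroup.inclusion (le_sup_left : P ≤ P ⊔ R) x) =
          Subgroup.inclusion (le_sup_left : P ≤ P ⊔ F.center) x := Subtype.ext rfl
      show ψ (Subgroup.inclusion hle (Subgroup.inclusion le_sup_left x)) = _
      rw [e, hψP x]
      rfl
    · intro x hx
      rw [hfix x hx, inv_mul_cancel]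
      exact Subgroup.one_mem _
    · intro x hx
      exact hfix x (Subgroup.mem_inf.mp hx).1
  | step hED hDF ih =>
    rename_i T S₁ C₁ D F₁ p₁
    intro _ _ hS hF hq R hR P hPU α hα hαp
    have hDsat := hDF.1.1
    have hTsc := hDF.1.2.2.2.1
    have hTS := hTsc.1
    have := Fusion.finite_of_le hTS
    have hTp := hS.to_le hTS
    have hUT := Fusion.le_of_isSubnormalIn hED
    have hR₀ := cop_inf_isNormal _ hS _ hF _ hDF R hR
    obtain ⟨β₁, hβ₁, -, hβ₁ext, hβ₁triv⟩ := ih hTp hDsat hq hR₀ hPU α hα hαp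
    have hP₁T := sup_le (hPU.trans hUT) (inf_le_right : R ⊓ T ≤ T)
    have hφ₁ := (Fusion.mem_autGroup_iff _ hP₁T β₁).mp hβ₁
    obtain ⟨φh, hφh, hφhext, hφhT⟩ := cop_lemmaX _ hS _ hF _ hDF hR _ hφ₁
    have hle : P ⊔ R ≤ (P ⊔ R ⊓ T) ⊔ R := sup_le (le_sup_left.trans le_sup_left) le_sup_right
    have hψ' := Fusion.restrict_mem _ hφh hle
    refine cop_crux_finish _ hS _ (T := T) (Fusion.stronglyClosed_of_isNormal _ hR) α hαp _ hψ' ?_ ?_ ?_
    · intro x
      have e : Subgroup.inclusion hle (Subgroup.inclusion (le_sup_left : P ≤ P ⊔ R) x) =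
          Subgroup.inclusion (le_sup_left : P ⊔ R ⊓ T ≤ (P ⊔ R ⊓ T) ⊔ R)
            (Subgroup.inclusion (le_sup_left : P ≤ P ⊔ R ⊓ T) x) := Subtype.ext rfl
      show φh (Subgroup.inclusion hle (Subgroup.inclusion le_sup_left x)) = _
      rw [e, hφhext]
      exact hβ₁ext x
    · intro x hx
      exact hφhT (Subgroup.inclusion hle x) hx
    · intro x hx
      have hx' : (x : Ω) ∈ P ⊔ R ⊓ T := Subgroup.mem_sup_right hx
      have e : Subgroup.inclusion hle x =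
          Subgroup.inclusion (le_sup_left : P ⊔ R ⊓ T ≤ (P ⊔ R ⊓ T) ⊔ R) ⟨(x : Ω), hx'⟩ :=
        Subtype.ext rfl
      show φh (Subgroup.inclusion hle x) = (x : Ω)
      rw [e, hφhext]
      exact hβ₁triv ⟨(x : Ω), hx'⟩ hx

/-- CRUX. `C` a component of `F` over `U`, `R` normal subgroup of `F`, `P ≤ U`, `α ∈ Aut_C(P)` of order prime to `p`:
`α` extends to `β ∈ Aut_F(P R)` of order prime to `p` fixing `R` elementwise. -/
theorem cop_crux [Finite S] (p : ℕ) [Fact p.Prime] (hS : IsPGroup p S)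
    (F : FusionSystem S) (hF : F.IsSaturated p) {U : Subgroup Ω} (C : FusionSystem U)
    (hC : C.IsComponentIn F p) {R : Subgroup Ω} (hR : F.IsNormal R) {P : Subgroup Ω} (hPU : P ≤ U)
    (α : MulAut P) (hα : α ∈ C.autGroup P) (hαp : (orderOf α).Coprime p) :
    ∃ β ∈ F.autGroup (P ⊔ R), (orderOf β).Coprime p ∧
      (∀ x : P, ((β (Subgroup.inclusion le_sup_left x) : ↥(P ⊔ R)) : Ω) = ((α x : P) : Ω)) ∧
      ∀ x : ↥(P ⊔ R), (x : Ω) ∈ R → ((β x : ↥(P ⊔ R)) : Ω) = (x : Ω) :=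
  cop_crux_aux hC.1 hS hF hC.2 hR hPU α hα hαp

end Cfsg.Agent.COP
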