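import Mathlib
import Cfsg.Prelude.Def_FusionComponents
import Cfsg.Agent.Lead.Fusion
import Cfsg.Agent.Lead.FusionSubnormal
import Cfsg.Agent.Lead.FusionNormalCrit
import Cfsg.Agent.CSE.Largest
import Cfsg.Agent.S5097

/-!
# S5150, piece P6: from the crux to `C ≤ C_F(R)` and the layer

`(7a)`: if every `p'`-element of every `Aut_C(P)` extends to `P ⊔ R` fixing `R` pointwise, then
`hyp(C) ≤ C_S(R)`.  `(7b)`: Alperin wrap, every map of `C` lies in `C_F(R)`.  `(2)`: the minimality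
clause of `IsLayerOf`.
-/

set_option autoImplicit false

namespace Cfsg.Agent.COP

open Cfsg Cfsg.FusionSystem Cfsg.Agent.Lead Cfsg.Agent.CSE

variable {Ω : Type*} [Group Ω] {S : Subgroup Ω}

/-- The hypothesis delivered by the crux: every `p'`-element of `Aut_C(P)`, `P ≤ U`, extends to
`P ⊔ R` fixing `R` pointwise. -/
def CopFix (p : ℕ) (F : FusionSystem S) {U : Subgroup Ω} (C : FusionSystem U) (R : Subgroup Ω) : Prop :=
  ∀ (P : Subgroup Ω), P ≤ U → ∀ α ∈ C.autGroup P, (orderOf α).Coprime p →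
    CseExt F R P (P.subtype.comp α.toMonoidHom)

/-- The hyperfocal subgroup lies in every subgroup containing the displacements of the
`p'`-automorphisms. -/
theorem cop_hyp_le {U : Subgroup Ω} (p : ℕ) (C : FusionSystem U) (K : Subgroup Ω)
    (h : ∀ (P : Subgroup Ω), P ≤ U → ∀ α ∈ C.autGroup P, (orderOf α).Coprime p →
      ∀ x : P, (x : Ω)⁻¹ * ((α x : P) : Ω) ∈ K) :
    C.hyperfocalSubgroup p ≤ K := by
  unfold FusionSystem.hyperfocalSubgroup
  rw [Subgroup.closure_le]
  rintro y ⟨P, α, x, hPU, hα, rfl⟩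
  let B : Subgroup ↥(C.autGroup P) :=
    { carrier := {β | ∀ x : P, (x : Ω)⁻¹ * (((β : MulAut P) x : P) : Ω) ∈ K}
      one_mem' := by
        intro x
        show (x : Ω)⁻¹ * (x : Ω) ∈ K
        rw [inv_mul_cancel]
        exact K.one_mem
      mul_mem' := by
        intro a b ha hb x
        have h1 := hb x
        have h2 := ha ((b : MulAut P) x)
        have : (x : Ω)⁻¹ * ((((a * b : ↥(C.autGroup P)) : MulAut P) x : P) : Ω) =
            ((x : Ω)⁻¹ * (((b : MulAut P) x : P) : Ω)) *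
              ((((b : MulAut P) x : P) : Ω)⁻¹ * (((a : MulAut P) ((b : MulAut P) x) : P) : Ω)) := by
          rw [mul_assoc, mul_inv_cancel_left]
          rfl
        rw [this]
        exact K.mul_mem h1 h2
      inv_mem' := by
        intro a ha x
        have h1 := ha ((a : MulAut P)⁻¹ x)
        have h2 : ((a : MulAut P) ((a : MulAut P)⁻¹ x)) = x := by
          rw [← MulAut.mul_apply, mul_inv_cancel, MulAut.one_apply]
        rw [h2] at h1
        have h3 := K.inv_mem h1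
        have : (x : Ω)⁻¹ * ((((a⁻¹ : ↥(C.autGroup P)) : MulAut P) x : P) : Ω) =
            (((((a : MulAut P)⁻¹ x : P) : Ω))⁻¹ * (x : Ω))⁻¹ := by
          rw [mul_inv_rev, inv_inv]
          rfl
        rw [this]
        exact h3 }
  have hle : pResidual p ↥(C.autGroup P) ≤ B := by
    unfold pResidual
    rw [Subgroup.closure_le]
    intro g hg x
    have hg' : (orderOf (g : MulAut P)).Coprime p := by
      rw [Subgroup.orderOf_coe]
      exact hg
    exact h P hPU (g : MulAut P) g.2 hg' x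
  exact hle hα x

/-- `(7a)`: the displacement of an automorphism that extends to `P ⊔ R` fixing `R` pointwise
centralizes `R`. -/
theorem cop_disp_mem_centralizerIn (F : FusionSystem S) {R : Subgroup Ω} (hR : F.IsNormal R)
    {P : Subgroup Ω} (hPS : P ≤ S) (α : MulAut P)
    (h : CseExt F R P (P.subtype.comp α.toMonoidHom)) (x : P) :
    (x : Ω)⁻¹ * ((α x : P) : Ω) ∈ centralizerIn S R := by
  obtain ⟨ψ, hψ, hψP, hψR⟩ := h
  have hsc := Fusion.stronglyClosed_of_isNormal F hR
  refine Subgroup.mem_inf.mpr ⟨S.mul_mem (S.inv_mem (hPS x.2)) (hPS (α x).2), ?_⟩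
  rw [Subgroup.mem_centralizer_iff]
  intro r hr
  -- `x r x⁻¹ ∈ R` is fixed by `ψ`
  have hxr : (x : Ω) * r * (x : Ω)⁻¹ ∈ R := Fusion.conj_mem_of_stronglyClosed F hsc (hPS x.2) hr
  have h1 := hψR ⟨_, hxr⟩
  have h2 := hψR ⟨r, hr⟩
  have h3 := hψP x
  have hx' : Subgroup.inclusion (le_sup_right : R ≤ P ⊔ R) ⟨(x : Ω) * r * (x : Ω)⁻¹, hxr⟩ =
      Subgroup.inclusion (le_sup_left : P ≤ P ⊔ R) x *
        Subgroup.inclusion (le_sup_right : R ≤ P ⊔ R) ⟨r, hr⟩ *
        (Subgroup.inclusion (le_sup_left : P ≤ P ⊔ R) x)⁻¹ := Subtype.ext rfl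
  rw [hx', map_mul, map_mul, map_inv, h2, h3] at h1
  have h4 : ((α x : P) : Ω) * r * ((α x : P) : Ω)⁻¹ = (x : Ω) * r * (x : Ω)⁻¹ := h1
  -- rearrange
  calc r * ((x : Ω)⁻¹ * ((α x : P) : Ω))
      = (x : Ω)⁻¹ * ((x : Ω) * r * (x : Ω)⁻¹) * ((α x : P) : Ω) := by group
    _ = (x : Ω)⁻¹ * (((α x : P) : Ω) * r * ((α x : P) : Ω)⁻¹) * ((α x : P) : Ω) := by rw [h4]
    _ = (x : Ω)⁻¹ * ((α x : P) : Ω) * r := by group

/-- `(7a)`: `hyp(C) ≤ C_S(R)`. -/
theorem cop_hyperfocal_le_centralizerIn (p : ℕ) (F : FusionSystem S) {U : Subgroup Ω} (hUS : U ≤ S)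
    (C : FusionSystem U) {R : Subgroup Ω} (hR : F.IsNormal R) (hfix : CopFix p F C R) :
    C.hyperfocalSubgroup p ≤ centralizerIn S R :=
  cop_hyp_le p C _ fun P hPU α hα hcop x =>
    cop_disp_mem_centralizerIn F hR (hPU.trans hUS) α (hfix P hPU α hα hcop) x

/-- `(7b)`: every map of `C` extends to `P ⊔ R` fixing `R` pointwise. -/
theorem cop_cseExt_of_copFix [Finite S] (p : ℕ) [Fact p.Prime] (hS : IsPGroup p S)
    (F : FusionSystem S) {U : Subgroup Ω} (hUS : U ≤ S) (C : FusionSystem U)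
    (hCsat : C.IsSaturated p) {R : Subgroup Ω} (hR : F.IsNormal R)
    (hUR : U ≤ centralizerIn S R) (hfix : CopFix p F C R)
    {P : Subgroup Ω} {φ : P →* Ω} (hφ : φ ∈ C.Hom P) : CseExt F R P φ := by
  have hRS : R ≤ S := hR.1
  have : Finite U := Fusion.finite_of_le hUS
  have hU : IsPGroup p U := hS.to_le hUS
  have hcomm : ∀ t ∈ U, ∀ c ∈ R, t * c = c * t := by
    intro t ht c hc
    have h1 := (Subgroup.mem_inf.mp (hUR ht)).2
    rw [Subgroup.mem_centralizer_iff] at h1
    exact (h1 c hc).symm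
  refine Fusion.pred_of_alperin_ind p hU C hCsat (CseExt F R) ?_ ?_ ?_ ?_ hφ
  · intro P g hP hg
    exact cseExt_conj F hRS P g (hP.trans hUS) (hUS hg) (fun c hc => hcomm g hg c hc)
  · intro P Q φ ψ hPQ _ _ h1 h2
    exact cseExt_comp F P Q φ ψ hPQ h1 h2
  · intro P φ ψ _ h1 _ hinv
    exact cseExt_inv F P φ ψ h1 hinv
  intro P hP _ α hα
  have hPU : P ≤ U := by
    rcases hP with rfl | hess
    · exact le_rfl
    · exact hess.1.1
  have hPS : P ≤ S := hPU.trans hUS
  have : Finite P := Fusion.finite_of_le hPS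
  have hPa : C.IsFullyAutomized p P := by
    rcases hP with rfl | hess
    · exact Fusion.top_fullyAutomized p C hCsat
    · exact (Fusion.fullyCentralized_fullyAutomized_of_fullyNormalized p hU C hCsat hess.2.1).2
  have hPRS : P ⊔ R ≤ S := sup_le hPS hRS
  have hK : C.autGroup P ≤ cseK F R P := by
    apply cse_autGroup_le_of_gen p C hPa
    · -- conjugations by elements of `U`
      rw [autInducedBy, Subgroup.closure_le]
      rintro a ⟨g, hg, hga⟩
      have hval : ∀ z : ↥(P ⊔ R), conjHom (P ⊔ R) g z ∈ P ⊔ R := by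
        apply Fusion.sup_map_mem
        · intro x
          show g * (x : Ω) * g⁻¹ ∈ P ⊔ R
          rw [← hga x]
          exact (le_sup_left : P ≤ P ⊔ R) (a x).2
        · intro c
          show g * (c : Ω) * g⁻¹ ∈ P ⊔ R
          rw [hcomm g hg c c.2, mul_inv_cancel_right]
          exact (le_sup_right : R ≤ P ⊔ R) c.2
      obtain ⟨β, hβ, hβg⟩ := cse_aut_of_hom F (conjHom (P ⊔ R) g) (F.conj_mem hPRS (hUS hg)) hval
      refine ⟨β, hβ, fun x => ?_, fun c => ?_⟩
      · apply Subtype.ext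
        rw [hβg]
        show g * (x : Ω) * g⁻¹ = ((a x : P) : Ω)
        rw [hga x]
      · apply Subtype.ext
        rw [hβg]
        show g * (c : Ω) * g⁻¹ = c
        rw [hcomm g hg c c.2, mul_inv_cancel_right]
    · -- `p'`-elements: the crux
      intro a ha hcop
      obtain ⟨ψ, hψ, hψP, hψR⟩ := hfix P hPU a ha hcop
      have hval : ∀ z : ↥(P ⊔ R), ψ z ∈ P ⊔ R := by
        apply Fusion.sup_map_mem
        · intro x
          rw [hψP x]
          exact (le_sup_left : P ≤ P ⊔ R) (a x).2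
        · intro c
          rw [hψR c]
          exact (le_sup_right : R ≤ P ⊔ R) c.2
      obtain ⟨β, hβ, hβg⟩ := cse_aut_of_hom F ψ hψ hval
      refine ⟨β, hβ, fun x => ?_, fun c => ?_⟩
      · apply Subtype.ext
        rw [hβg, hψP x]
        rfl
      · apply Subtype.ext
        rw [hβg, hψR c]
        rfl
  obtain ⟨β, hβ, hβP, hβC⟩ := hK hα
  refine ⟨_, (Fusion.mem_autGroup_iff F hPRS β).mp hβ, fun x => ?_, fun c => ?_⟩
  · show ((β (Subgroup.inclusion le_sup_left x) : ↥(P ⊔ R)) : Ω) = ((α x : P) : Ω)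
    rw [hβP]
    rfl
  · show ((β (Subgroup.inclusion le_sup_right c) : ↥(P ⊔ R)) : Ω) = c
    rw [hβC]
    rfl

/-- `(7)`: a saturated system `C` over `U = hyp(C)` all of whose `p'`-automorphisms extend trivially
on `R` is a subsystem of `C_F(R)`. -/
theorem cop_hom_subset_centralizerHom [Finite S] (p : ℕ) [Fact p.Prime] (hS : IsPGroup p S)
    (F : FusionSystem S) {U : Subgroup Ω} (hUS : U ≤ S) (C : FusionSystem U)
    (hCsat : C.IsSaturated p) (hhyp : C.hyperfocalSubgroup p = U) {R : Subgroup Ω}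
    (hR : F.IsNormal R) (hfix : CopFix p F C R) (P : Subgroup Ω) :
    C.Hom P ⊆ F.centralizerHom R P := by
  have hUR : U ≤ centralizerIn S R := by
    have := cop_hyperfocal_le_centralizerIn p F hUS C hR hfix
    rwa [hhyp] at this
  intro φ hφ
  have hPU : P ≤ U := Fusion.src_le C hφ
  obtain ⟨ψ, hψ, hψP, hψR⟩ := cop_cseExt_of_copFix p hS F hUS C hCsat hR hUR hfix hφ
  refine ⟨?_, hPU.trans hUR, fun x => hUR (Fusion.map_mem C hφ x), ψ, hψ, hψP, hψR⟩
  have h1 := Fusion.restrict_mem F hψ (le_sup_left : P ≤ P ⊔ R)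
  have h2 : ψ.comp (Subgroup.inclusion (le_sup_left : P ≤ P ⊔ R)) = φ := by
    ext x
    exact hψP x
  rw [h2] at h1
  exact h1

end Cfsg.Agent.COP
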