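import Mathlib
import Cfsg.Prelude.Def_FusionComponents
import Cfsg.Agent.COP.Wrap
import Cfsg.Agent.COP.CentNormal
import Cfsg.Agent.COP.Crux

/-!
# S5150, final assembly: components and the layer lie in `C_F(R)` for every normal subgroup `R`
-/

set_option autoImplicit false

namespace Cfsg.Agent.COP

open Cfsg Cfsg.FusionSystem Cfsg.Agent.Lead Cfsg.Agent.CSE

variable {Ω : Type*} [Group Ω] {S : Subgroup Ω}

/-- The crux in the `CseExt` form. -/
theorem cop_copFix_of_component [Finite S] (p : ℕ) [Fact p.Prime] (hS : IsPGroup p S)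
    (F : FusionSystem S) (hF : F.IsSaturated p) {U : Subgroup Ω} (C : FusionSystem U)
    (hC : C.IsComponentIn F p) {R : Subgroup Ω} (hR : F.IsNormal R) : CopFix p F C R := by
  intro P hPU α hα hcop
  have hUS : U ≤ S := Fusion.le_of_isSubnormalIn hC.1
  have hPRS : P ⊔ R ≤ S := sup_le (hPU.trans hUS) hR.1
  obtain ⟨β, hβ, -, hβP, hβR⟩ := cop_crux p hS F hF C hC hR hPU α hα hcop
  refine ⟨_, (Fusion.mem_autGroup_iff F hPRS β).mp hβ, fun x => ?_, fun c => ?_⟩
  · exact hβP x
  · exact hβR _ c.2

/-- The Sylow group of a component centralizes every normal subgroup of `F`. -/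
theorem cop_component_le_centralizerIn [Finite S] (p : ℕ) [Fact p.Prime] (hS : IsPGroup p S)
    (F : FusionSystem S) (hF : F.IsSaturated p) {U : Subgroup Ω} (C : FusionSystem U)
    (hC : C.IsComponentIn F p) {R : Subgroup Ω} (hR : F.IsNormal R) : U ≤ centralizerIn S R := by
  have hUS : U ≤ S := Fusion.le_of_isSubnormalIn hC.1
  have := cop_hyperfocal_le_centralizerIn p F hUS C hR (cop_copFix_of_component p hS F hF C hC hR)
  rwa [hC.2.2.1] at this

/-- Every component of `F` lies in the centralizer system of every normal subgroup of `F`. -/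
theorem cop_component_le [Finite S] (p : ℕ) [Fact p.Prime] (hS : IsPGroup p S)
    (F : FusionSystem S) (hF : F.IsSaturated p) {U : Subgroup Ω} (C : FusionSystem U)
    (hC : C.IsComponentIn F p) {R : Subgroup Ω} (hR : F.IsNormal R) (P : Subgroup Ω) :
    C.Hom P ⊆ F.centralizerHom R P :=
  cop_hom_subset_centralizerHom p hS F (Fusion.le_of_isSubnormalIn hC.1) C hC.2.1 hC.2.2.1 hR
    (cop_copFix_of_component p hS F hF C hC hR) P

/-- S5150 in general form: the layer lies in the centralizer system of every normal subgroup. -/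
theorem cop_layer_le [Finite S] (p : ℕ) [Fact p.Prime] (hS : IsPGroup p S)
    (F : FusionSystem S) (hF : F.IsSaturated p) {T : Subgroup Ω} (E : FusionSystem T)
    (hE : E.IsLayerOf F p) {R : Subgroup Ω} (hR : F.IsNormal R) (P : Subgroup Ω) :
    E.Hom P ⊆ F.centralizerHom R P := by
  obtain ⟨-, -, hmin⟩ := hE
  have hCCn : (Cfsg.Agent.S5097.centSys F R hR.1).IsNormalIn F p :=
    cop_centralizer_isNormalIn p hS F hF hR _ (fun _ => rfl)
  exact hmin _ _ hCCn (fun U C hC Q => cop_component_le p hS F hF C hC hR Q) P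

end Cfsg.Agent.COP
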